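import Groth.Agent.Lib.SerreCor28.Alg
import Groth.Agent.Lib.CodimExt27.Basic
import Groth.Agent.Lib.LciDual27.Basic
import Groth.Agent.Lib.DualTF27.Proj
import Groth.Agent.Lib.FundIso27.Iso
import Groth.Agent.Lib.CMReg.ClosedSeq
import Groth.Agent.Lib.H1Sheaf6.Conormal
import Groth.Agent.Lib.RelReg.Stalk
import Groth.Agent.Lib.Goodman.Divisor
import Groth.Agent.Lib.QCoh.SupportExact
import Groth.Agent.Lib.RegPow10.Main

/-!
# Stalks of the ideal of a codimension two regular immersion
-/

set_option autoImplicit false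
set_option maxHeartbeats 1600000
set_option linter.style.haveILetI false
set_option linter.unusedSectionVars false
set_option backward.isDefEq.respectTransparency false

universe u

open CategoryTheory CategoryTheory.Limits AlgebraicGeometry Opposite TopologicalSpace RingTheory.Sequence
open GrothLib.QCoh (stalkLin)

noncomputable section

namespace GrothLib.SerreCor28

variable {P Y : Scheme.{u}} (i : Y ⟶ P) [IsClosedImmersion i]

theorem idealModι_comp_unitToPush : ClSub.idealModι i.ker ≫ ClSub.unitToPush i = 0 := by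
  refine Scheme.Modules.hom_ext _ _ fun U => AddCommGrpCat.hom_ext (AddMonoidHom.ext fun m => ?_)
  exact H1Sheaf6.app_val_eq_zero i U m

/-- The ideal sequence of a closed immersion. -/
abbrev idealSeq : ShortComplex P.Modules :=
  ShortComplex.mk (ClSub.idealModι i.ker) (ClSub.unitToPush i) (idealModι_comp_unitToPush i)

theorem idealSeq_shortExact : (idealSeq i).ShortExact :=
  CMReg.shortExact_of_local i _ _ fun x => ⟨⊤, trivial, fun T _ =>
    ⟨IdealModSec.val_injective i.ker T.1, fun r hr =>
      IdealModSec.exists_val_eq i.ker T (by rw [i.ker_apply, RingHom.mem_ker]; exact hr)⟩⟩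

variable [IsLocallyNoetherian P] (hlci : RegImm.IsRegularImmersionOfCodim RegImm.Kind.regular 2 i)

include hlci in
theorem exists_pair_range (z : Y) : ∃ f g : P.presheaf.stalk (i z), IsWeaklyRegular (P.presheaf.stalk (i z)) [f, g] ∧
    f ∈ IsLocalRing.maximalIdeal _ ∧ g ∈ IsLocalRing.maximalIdeal _ ∧
    Goodman.st i.ker (i z) = Ideal.span {f, g} := by
  obtain ⟨W, hzW, -, f, hf⟩ := FundIso27.exists_frame_nhd i hlci z ⊤ trivial
  let φ := (P.presheaf.germ W.1 (i z) hzW).hom
  have hker : RingHom.ker (i.stalkMap z).hom = (i.ker.ideal W).map φ := RegSeqLoc.ker_stalkMap i z W hzW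
  have hm : ∀ j, φ (f j) ∈ IsLocalRing.maximalIdeal (P.presheaf.stalk (i z)) := fun j => by
    refine IsLocalRing.le_maximalIdeal (RingHom.ker_ne_top (i.stalkMap z).hom) ?_
    rw [hker, i.ker_apply, hf.ker]
    exact Ideal.mem_map_of_mem φ (Ideal.subset_span ⟨j, rfl⟩)
  refine ⟨φ (f 0), φ (f 1), ?_, hm 0, hm 1, ?_⟩
  · letI := φ.toAlgebra
    haveI : Module.Flat Γ(P, W.1) (P.presheaf.stalk (i z)) := RelReg.flat_germ W.2 hzW
    have h := hf.regular.of_flat (S := P.presheaf.stalk (i z))
    simp only [List.map_ofFn, List.ofFn_succ, List.ofFn_zero] at h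
    exact h
  · rw [Goodman.st_eq i.ker W hzW, i.ker_apply, hf.ker, Ideal.map_span, ← Set.range_comp]
    congr 1
    ext y
    simp [Fin.exists_fin_two, eq_comm, φ]

include hlci in
theorem exists_pair (x : P) : ∃ f g : P.presheaf.stalk x, IsWeaklyRegular (P.presheaf.stalk x) [f, g] ∧
    Goodman.st i.ker x = Ideal.span {f, g} := by
  by_cases hx : x ∈ Set.range i
  · obtain ⟨z, rfl⟩ := hx
    obtain ⟨f, g, h, -, -, he⟩ := exists_pair_range i hlci z
    exact ⟨f, g, h, he⟩
  · refine ⟨1, 0, ?_, ?_⟩
    · rw [isWeaklyRegular_cons_iff]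
      refine ⟨IsSMulRegular.one _, ?_⟩
      rw [isWeaklyRegular_cons_iff]
      refine ⟨fun a b _ => ?_, IsWeaklyRegular.nil _ _⟩
      have : Subsingleton (QuotSMulTop (1 : P.presheaf.stalk x) (P.presheaf.stalk x)) := by
        rw [Submodule.Quotient.subsingleton_iff]
        exact top_unique fun y _ => (Submodule.mem_smul_pointwise_iff_exists _ _ _).2 ⟨y, trivial, one_smul _ _⟩
      exact Subsingleton.elim a b
    · rw [Goodman.st_of_notMem i.ker]
      · exact (Ideal.eq_top_of_isUnit_mem _ (Ideal.subset_span (by simp)) isUnit_one).symm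
      · rw [Scheme.Hom.support_ker, i.isClosedEmbedding.isClosed_range.closure_eq]
        exact hx

include hlci in
theorem projective_ker_stalk (x : P) {L : P.Modules} (hL : FlatMod.IsFinLocFree L) (π : L ⟶ ClSub.idealMod i.ker)
    [Epi π] : Module.Projective (P.presheaf.stalk x) (LinearMap.ker (stalkLin π x)) := by
  haveI := Euler.isQuasicoherent_of_isFinLocFree hL
  haveI : Module.Free (P.presheaf.stalk x) (L.presheaf.stalk x) := ((LocFree8.isFinLocFree_iff_fp_free L).1 hL).2 x
  let e : (ClSub.idealMod i.ker).presheaf.stalk x ≃ₗ[P.presheaf.stalk x] Goodman.st i.ker x :=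
    LinearEquiv.ofInjective (OmegaBC.sval i.ker x) (OmegaBC.sval_injective i.ker x)
  have hπ : Function.Surjective (stalkLin π x) :=
    (ModuleCat.epi_iff_surjective ((OX.stalk x).map π)).1 ((OX.epi_iff π).1 inferInstance x)
  obtain ⟨f, g, h, hI⟩ := exists_pair i hlci x
  have := projective_ker_of_pair hI h (e.toLinearMap ∘ₗ stalkLin π x) (e.surjective.comp hπ)
  rwa [LinearMap.ker_comp_of_ker_eq_bot _ e.ker] at this

include hlci in
/-- The kernel of a cover of the ideal by a bundle is a bundle. -/
theorem isFinLocFree_kernel {L : P.Modules} (hL : FlatMod.IsFinLocFree L)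
    (π : L ⟶ ClSub.idealMod i.ker) [Epi π] : FlatMod.IsFinLocFree (kernel π) := by
  have hLc := Euler.isCoh_of_isFinLocFree hL
  have hK := QCoh.isCoh_kernel π hLc (RegPow.isCoh_idealMod i.ker)
  refine (Ref1.isFinLocFree_iff_free (HomSh.hasRel_of_isCoh hK)).2 fun x => ?_
  haveI := projective_ker_stalk i hlci x hL π
  have hS : (ShortComplex.mk (kernel.ι π) π (kernel.condition π)).ShortExact :=
    { exact := ShortComplex.exact_of_f_is_kernel _ (kernelIsKernel π) }
  have h := (OX.shortExact_iff _).1 hS x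
  have hinj : Function.Injective (stalkLin (kernel.ι π) x) := (ModuleCat.mono_iff_injective _).1 h.mono_f
  have hex : Function.Exact (stalkLin (kernel.ι π) x) (stalkLin π x) :=
    (ShortComplex.ShortExact.moduleCat_exact_iff_function_exact _).1 h.exact
  haveI := QCoh.stalk_finite (kernel π) hK x
  let e : (kernel π).presheaf.stalk x ≃ₗ[P.presheaf.stalk x] LinearMap.ker (stalkLin π x) :=
    LinearEquiv.ofInjective _ hinj ≪≫ₗ LinearEquiv.ofEq _ _ hex.linearMap_ker_eq.symm
  haveI := Module.Projective.of_equiv e.symm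
  haveI : Module.FinitePresentation (P.presheaf.stalk x) ((kernel π).presheaf.stalk x) :=
    Module.finitePresentation_of_projective _ _
  exact Module.free_of_flat_of_isLocalRing

section Proj

variable {k : Type u} [Field k] {n : ℕ} (j : Y ⟶ CohB1.ProjSpace n k) [IsClosedImmersion j]
  (hj : RegImm.IsRegularImmersionOfCodim RegImm.Kind.regular 2 j)

local notation "Pn" => CohB1.ProjSpace n k

include hj in
theorem two_le_dim_stalk (z : Y) : (2 : WithBot ℕ∞) ≤ ringKrullDim ((Pn).presheaf.stalk (j z)) := by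
  haveI := Chow.isProper_toSpec n k
  haveI := LocallyOfFiniteType.isLocallyNoetherian (CohB1.ProjSpace.toSpec n k)
  obtain ⟨f, g, h, hf, hg, -⟩ := exists_pair_range j hj z
  exact two_le_dim h hf hg

include hj in
/-- The local Ext of `O_Y` into bundles vanishes below the codimension. -/
theorem isZero_extSh {E : (Pn).Modules} (hE : FlatMod.IsFinLocFree E)
    [ModSite.HasSheafHom (O := (Pn).sheaf) ((Scheme.Modules.pushforward j).obj (Coh.structureModule Y))]
    [HasInjectiveResolutions (ModSite.Mod (Pn).sheaf)] {p : ℕ} (hp : p < 2) :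
    IsZero ((ModSite.extSh (O := (Pn).sheaf) ((Scheme.Modules.pushforward j).obj (Coh.structureModule Y)) p).obj E) := by
  haveI := Chow.isProper_toSpec n k
  haveI := LocallyOfFiniteType.isLocallyNoetherian (CohB1.ProjSpace.toSpec n k)
  haveI : ∀ M : (Pn).Modules, ModSite.HasSheafHom (O := (Pn).sheaf) M := fun M => SheafCoh.hasSheafHom _ _
  refine DepthExt20.isZero_extSh_of_le_depth (QCoh.pushUnit_isCoh j) (Euler.isCoh_of_isFinLocFree hE)
    (fun x hx => ?_) hp
  obtain ⟨z, rfl⟩ := QCoh.support_pushforward_subset_range j _ hx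
  refine CodimExt27.le_depth_stalk_of_finLocFree (CohB1.ProjSpace.toSpec n k) (LciDual27.dim_components_proj n)
    (DualTF27.isRegular_projSpace k n) hE (j z) ?_
  rw [← CodimExt27.ptDim_add_dim_stalk (CohB1.ProjSpace.toSpec n k) (LciDual27.dim_components_proj n) (j z)]
  exact add_le_add le_rfl (two_le_dim_stalk j hj z)

end Proj

end GrothLib.SerreCor28
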