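import Groth.Agent.Lib.SerreCor28.ExtJ
import Groth.Agent.Lib.LocFreeDual20.ExtGlobal
import Groth.Agent.Lib.SerrePn27.Ext
import Groth.Agent.Lib.CBExt28.Transfer
import Groth.Agent.Lib.PBDeg17.VBInj
import Groth.Agent.Lib.UnitsThick26.FlatIdeal
import Groth.Agent.Lib.ProjDim.Const
import Groth.Agent.Lib.JumpPts28.Main
import Groth.Agent.S0846

/-!
# The Serre correspondence in codimension two: construction
-/

set_option autoImplicit false
set_option maxHeartbeats 1600000
set_option linter.style.haveILetI false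
set_option linter.unusedSectionVars false
set_option linter.unusedTactic false
set_option linter.unreachableTactic false
set_option backward.isDefEq.respectTransparency false

universe u

open CategoryTheory CategoryTheory.Limits AlgebraicGeometry
open CategoryTheory.Abelian (Ext)
open GrothLib.LocFreeHom GrothLib.LocFreeDual20 GrothLib.OX

noncomputable section

namespace GrothLib.SerreCor28

attribute [local instance] LocFreeHom.hasSheafHom

variable {k : Type u} [Field k] {n : ℕ}

local notation "Pn" => CohB1.ProjSpace n k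

local instance (M : (Pn).Modules) : ModSite.HasSheafHom (O := (Pn).sheaf) M :=
  GrothLib.SheafCoh.hasSheafHom (Pn).sheaf M

/-- Morphisms lift along a quotient map when `H¹` of the source and `H²` of the kernel vanish. -/
theorem exists_lift {C : Type*} [Category C] [Abelian C] [HasExt.{u} C] {T A D : C} (β : A ⟶ D)
    (h1 : Subsingleton (Ext T A 1)) (h2 : Subsingleton (Ext T (kernel β) 2)) (t : T ⟶ cokernel β) :
    ∃ a : T ⟶ D, a ≫ cokernel.π β = t := by
  have w1 : kernel.ι β ≫ Abelian.factorThruImage β = 0 := by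
    rw [← cancel_mono (Abelian.image.ι β), Category.assoc, Abelian.image.fac, kernel.condition, zero_comp]
  have hA : (ShortComplex.mk (kernel.ι β) (Abelian.factorThruImage β) w1).ShortExact :=
    { exact := ShortComplex.exact_of_f_is_kernel _ (KernelFork.IsLimit.ofι' _ w1 fun {Z} z hz =>
        ⟨kernel.lift β z (by rw [← Abelian.image.fac β, reassoc_of% hz, zero_comp]), kernel.lift_ι _ _ _⟩) }
  have hQ : (ShortComplex.mk (Abelian.image.ι β) (cokernel.π β) (kernel.condition _)).ShortExact :=
    { exact := ShortComplex.exact_of_f_is_kernel _ (kernelIsKernel (cokernel.π β)) }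
  have hI : Subsingleton (Ext T (Abelian.image β) 1) := subsingleton_of_forall_eq 0 fun x => by
    obtain ⟨y, rfl⟩ := Ext.covariant_sequence_exact₃ _ hA x (show 1 + 1 = 2 by rfl) (@Subsingleton.elim _ h2 _ _)
    rw [@Subsingleton.elim _ h1 y 0, Ext.zero_comp]
  obtain ⟨y, hy⟩ := Ext.covariant_sequence_exact₃ _ hQ (Ext.mk₀ t) (show 0 + 1 = 1 by rfl)
    (@Subsingleton.elim _ hI _ _)
  obtain ⟨a, rfl⟩ := (Ext.mk₀_bijective _ _).2 y
  exact ⟨a, (Ext.mk₀_bijective _ _).1 ((Ext.mk₀_comp_mk₀ _ _).symm.trans hy)⟩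

theorem subsingleton_ext_twist [HasExt.{u} (Pn).Modules] (a b : ℤ) {p : ℕ} (hp : 1 ≤ p) (hpn : p < n) :
    Subsingleton (Ext (Twist.twistProjSpace n k a) (Twist.twistProjSpace n k b) p) := by
  obtain ⟨e0⟩ := CMReg.nonempty_twist_zero (n := n) (k := k)
  obtain ⟨u⟩ := CMReg.nonempty_twist_add (n := n) (k := k) (add_neg_cancel a)
  obtain ⟨u'⟩ := CMReg.nonempty_twist_add (n := n) (k := k) (neg_add_cancel a)
  obtain ⟨w⟩ := CMReg.nonempty_twist_add (n := n) (k := k) (show (b - a) + a = b by ring)
  exact SerrePn27.subsingleton_ext_of_tensor (X := Pn) (L := Twist.twistProjSpace n k a)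
    (M := Twist.twistProjSpace n k (-a)) (A := Twist.twistProjSpace n k a) (B := Twist.twistProjSpace n k b)
    (E := Twist.twistProjSpace n k (b - a)) (u ≪≫ e0) (u' ≪≫ e0)
    (OX.tensorUnitLeftIso (X := Pn) (Twist.twistProjSpace n k a)) w
    (ProjCohom.subsingleton_HH (n := n) (R := k) (by omega) (by omega))

variable {Y : Scheme.{u}} (i : Y ⟶ CohB1.ProjSpace n k) [IsClosedImmersion i]
  (hlci : RegImm.IsRegularImmersionOfCodim RegImm.Kind.regular 2 i)

include hlci in
theorem genericPoint_notMem [IsIntegral (Pn)] : genericPoint (Pn) ∉ Set.range i := by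
  rintro ⟨z, hz⟩
  have h := two_le_dim_stalk i hlci z
  rw [hz, ringKrullDim_stalk_eq_coheight, Ref1.coheight_genericPoint] at h
  exact absurd h (by norm_num)

include hlci in
theorem grank_idealMod [IsIntegral (Pn)] : Euler.grank (ClSub.idealMod i.ker) = 1 := by
  have hη : genericPoint (Pn) ∉ (i.ker.support : Set ↥(Pn)) := by
    rw [Scheme.Hom.support_ker, i.isClosedEmbedding.isClosed_range.closure_eq]
    exact genericPoint_notMem i hlci
  have hb : Function.Bijective (QCoh.stalkLin (ClSub.idealModι i.ker) (genericPoint (Pn))) :=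
    HodgeIndex.stalk_bijective_idealModι i.ker hη
  refine (LinearEquiv.finrank_eq (LinearEquiv.ofBijective _ hb)).trans ?_
  exact Euler.grank_of_locFree (Euler.isFinLocFreeOfRank_one' Euler.isInvertible_structure)

include hlci in
/-- A bundle extension of the ideal by `O(-c)`. -/
theorem exists_extension (hn : 3 ≤ n) (c : ℤ)
    (hdet : ∃ L : Y.Modules, ExtPow.IsExtPow 2 (Omega.conormal i) L ∧
      Nonempty (L ≅ (Scheme.Modules.pullback i).obj (Twist.twistProjSpace n k (-c)))) :
    ∃ (F : (Pn).Modules) (a : Twist.twistProjSpace n k (-c) ⟶ F) (b : F ⟶ ClSub.idealMod i.ker) (w : a ≫ b = 0),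
      (ShortComplex.mk a b w).ShortExact ∧ FlatMod.IsFinLocFree F := by
  classical
  haveI := Chow.isProper_toSpec n k
  haveI : IsLocallyNoetherian (Pn) := LocallyOfFiniteType.isLocallyNoetherian (CohB1.ProjSpace.toSpec n k)
  haveI : IsIntegral (Pn) := ProjDim.isIntegral_proj k n
  haveI : HasInjectiveResolutions (ModSite.Mod (Pn).sheaf) := ExtTilde20.hasInjectiveResolutions_mod _
  haveI : HasInjectiveResolutions (Pn).Modules := ‹HasInjectiveResolutions (ModSite.Mod (Pn).sheaf)›
  haveI : HasExt.{u} (Pn).Modules := ModSupp25.hasExt_mod (Pn).sheaf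
  let M := Twist.twistProjSpace n k (-c)
  have hMi : PicF.IsInvertible M := ProjPic26.isInvertible_twistProjSpace n k (-c)
  have hMf : FlatMod.IsFinLocFree M := Euler.isFinLocFree_of_isInvertible hMi
  haveI : M.IsQuasicoherent := (Euler.isCoh_of_isInvertible hMi).1
  obtain ⟨L, ⟨φ, hφ⟩, ⟨eL⟩⟩ := hdet
  have hLi := FundIso27.isInvertible_L i φ hφ hlci
  haveI : ModSite.HasSheafHom (O := Y.sheaf) L := SheafCoh.hasSheafHom _ _
  obtain ⟨iso2⟩ := FundIso27.nonempty_eSh_iso i M φ hφ hlci
  obtain ⟨eO⟩ := FundIso27.nonempty_sheafHom_tensor_iso hLi (Coh.structureModule Y)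
  let eQ : FundIso27.eSh i M 2 ≅ (Scheme.Modules.pushforward i).obj (Coh.structureModule Y) :=
    iso2 ≪≫ (Scheme.Modules.pushforward i).mapIso ((ModSite.sheafHom (O := Y.sheaf) L).mapIso
      (eL.symm ≪≫ (OX.tensorUnitLeftIso L).symm) ≪≫ eO)
  haveI := additive_site ((Scheme.Modules.pushforward i).obj (Coh.structureModule Y))
  haveI := (DCoh.sheafHomAdj (ClSub.idealMod i.ker)).right_adjoint_additive
  obtain ⟨⟨eM⟩, ⟨e12⟩⟩ := ext_ideal (idealSeq_shortExact i) M (isZero_extSh i hlci hMf (p := 0) (by omega))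
    (isZero_extSh i hlci hMf (p := 1) (by omega))
  obtain ⟨r, d, π, hπ⟩ := Groth.Agent.S0846.result (CohB1.polyGrading n k) (ClSub.idealMod i.ker)
    (RegPow.isCoh_idealMod i.ker)
  haveI := hπ
  let L₀ : (Pn).Modules := ∐ fun j : Fin r => Twist.twistProjSpace n k (d j)
  let π' : L₀ ⟶ ClSub.idealMod i.ker := π
  haveI : Epi π' := hπ
  have hL₀ : FlatMod.IsFinLocFree L₀ := OX.isFinLocFree_sigma _ fun j =>
    Euler.isFinLocFree_of_isInvertible (ProjPic26.isInvertible_twistProjSpace n k (d j))
  have hK := isFinLocFree_kernel i hlci hL₀ π'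
  let S := ShortComplex.mk (kernel.ι π') π' (kernel.condition π')
  have hS : S.ShortExact := { exact := ShortComplex.exact_of_f_is_kernel _ (kernelIsKernel π') }
  obtain ⟨e1⟩ := ExtOne28.nonempty_extOne_iso (kernel.ι π') π' (kernel.condition π') hS hK hL₀ M
  let β := hMap (kernel.ι π') M
  let eC : cokernel β ≅ (Scheme.Modules.pushforward i).obj (Coh.structureModule Y) := e1.symm ≪≫ e12 ≪≫ eQ
  obtain ⟨eK0⟩ := nonempty_kernel_hMap_iso S hS M
  let eK : kernel β ≅ M := eK0 ≪≫ eM
  have h1 : Subsingleton (Ext (Coh.structureModule (Pn)) (iHom L₀ M) 1) := by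
    refine SerrePn27.subsingleton_ext_structure ?_
    obtain ⟨e⟩ := LocFreeDual20.nonempty_ext_addEquiv_HH hL₀ M 1
    exact @Equiv.subsingleton _ _ e.toEquiv.symm
      (SerrePn27.subsingleton_ext_sigma _ fun j => subsingleton_ext_twist (d j) (-c) le_rfl (by omega))
  have h2 : Subsingleton (Ext (Coh.structureModule (Pn)) (kernel β) 2) := by
    have h := SerrePn27.subsingleton_ext_structure (X := Pn)
      (ProjCohom.subsingleton_HH (n := n) (R := k) (d := -c) (q := 2) (by omega) (by omega))
    obtain ⟨e⟩ : Nonempty (Ext (Coh.structureModule (Pn)) (kernel β) 2 ≃+ Ext (Coh.structureModule (Pn)) M 2) :=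
      ⟨((Abelian.extFunctor (C := (Pn).Modules) 2).obj (Opposite.op (Coh.structureModule (Pn)))).mapIso eK
        |>.addCommGroupIsoToAddEquiv⟩
    exact @Equiv.subsingleton _ _ e.toEquiv h
  obtain ⟨a, ha⟩ := exists_lift β h1 h2 (ClSub.unitToPush i ≫ eC.inv)
  haveI := UnitsThick26.epi_unitToPush i
  haveI : Epi (a ≫ cokernel.π β) := by rw [ha]; infer_instance
  have hq : (ShortComplex.mk β (cokernel.π β) (cokernel.condition β)).Exact :=
    ShortComplex.exact_of_g_is_cokernel _ (cokernelIsCokernel β)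
  haveI := epi_desc a β (cokernel.π β) (cokernel.condition β) hq
  obtain ⟨m, p, w, hse⟩ := exists_ses a β (cokernel.π β) (cokernel.condition β) hq
  let eJ : kernel (a ≫ cokernel.π β) ≅ ClSub.idealMod i.ker :=
    kernel.mapIso _ _ (Iso.refl _) eC (by rw [ha, Category.assoc, Iso.inv_hom_id, Category.comp_id, Iso.refl_hom,
      Category.id_comp]) ≪≫
      ((kernelIsKernel (ClSub.unitToPush i)).conePointUniqueUpToIso (idealSeq_shortExact i).fIsKernel)
  refine ⟨_, eK.inv ≫ m, p ≫ eJ.hom, by rw [Category.assoc, reassoc_of% w, zero_comp, comp_zero], ?_, ?_⟩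
  · exact ShortComplex.shortExact_of_iso
      (S₁ := ShortComplex.mk m p w)
      (ShortComplex.isoMk eK (Iso.refl _) eJ (by simp) (by simp)) hse
  · obtain ⟨rA, hA⟩ := ModelK.exists_rank_connected (LocFreeHom.isFinLocFree_iHom hL₀ hMf)
    exact OX.isFinLocFree_kernel _
      (FinCov.isFinLocFree_of_rank (PBDeg.isFinLocFreeOfRank_biprod
        (Euler.isFinLocFreeOfRank_one' Euler.isInvertible_structure) hA))
      (LocFreeHom.isFinLocFree_iHom hK hMf)

end GrothLib.SerreCor28
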