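import Groth.Agent.Lib.SerreCor28.Det
import Groth.Agent.Lib.SerreCor28.Build
import Groth.Agent.Lib.Ample.ProjAmple
import Groth.Agent.Lib.Ample.RelAmple
import Groth.Agent.Lib.Ample.Criterion
import Groth.Agent.Lib.CurveMult.VeryAmpleGenusZero
import Groth.Agent.Lib.IndQA.Basic
import Groth.Agent.Lib.Kleiman.Proper
import Groth.Agent.Lib.QCoh.SupportPullback
import Groth.Agent.Lib.Tango28.Simple
import Groth.Agent.Lib.CurveMult.TwistHom

/-!
# Serre bundles split exactly for global complete intersections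
-/

set_option autoImplicit false
set_option maxHeartbeats 1600000
set_option linter.style.haveILetI false
set_option linter.unusedSectionVars false
set_option backward.isDefEq.respectTransparency false

universe u

open CategoryTheory CategoryTheory.Limits AlgebraicGeometry Opposite TopologicalSpace RingTheory.Sequence
open CategoryTheory.Abelian (Ext)
open GrothLib.QCoh (stalkLin)

noncomputable section

namespace GrothLib.SerreCor28

section Alg

variable {R : Type u} [CommRing R] [IsLocalRing R]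

/-- Coefficients of a relation among the two generators lie in the maximal ideal. -/
theorem ker_pairMap_le {f g : R} {I : Ideal R} (hf : f ∈ I) (hg : g ∈ I) (h : IsWeaklyRegular R [f, g])
    (hfm : f ∈ IsLocalRing.maximalIdeal R) (hgm : g ∈ IsLocalRing.maximalIdeal R) :
    LinearMap.ker (pairMap f g I hf hg) ≤ IsLocalRing.maximalIdeal R • ⊤ := by
  rintro ⟨a, b⟩ hx
  have e : a * f + b * g = 0 := by simpa [pairMap] using congrArg Subtype.val hx
  obtain ⟨c, rfl, rfl⟩ := exists_eq_mul h e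
  have : ((-(c * g), c * f) : R × R) = g • ((-c, 0) : R × R) + f • ((0, c) : R × R) := by
    ext <;> simp [mul_comm]
  rw [this]
  exact add_mem (Submodule.smul_mem_smul hgm trivial) (Submodule.smul_mem_smul hfm trivial)

/-- A map into a rank two module lifting a cover of `(f, g)` is surjective. -/
theorem surjective_of_cover [IsNoetherianRing R] {f g : R} {I : Ideal R} (hI : I = Ideal.span {f, g})
    (h : IsWeaklyRegular R [f, g]) (hfm : f ∈ IsLocalRing.maximalIdeal R) (hgm : g ∈ IsLocalRing.maximalIdeal R)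
    {G E : Type u} [AddCommGroup G] [Module R G] [AddCommGroup E] [Module R E] (b : Module.Basis (Fin 2) R E)
    (π : E →ₗ[R] I) (hπ : Function.Surjective π) (l : G →ₗ[R] E) (hl : Function.Surjective (π ∘ₗ l)) :
    Function.Surjective l := by
  have hf : f ∈ I := hI ▸ Ideal.subset_span (by simp)
  have hg : g ∈ I := hI ▸ Ideal.subset_span (by simp)
  let eB : E ≃ₗ[R] R × R := b.equivFun ≪≫ₗ LinearEquiv.finTwoArrow R R
  let q := pairMap f g I hf hg
  have hq := pairMap_surjective hI hf hg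
  obtain ⟨v, hv⟩ := Module.projective_lifting_property q (π ∘ₗ eB.symm.toLinearMap) hq
  obtain ⟨u, hu⟩ := Module.projective_lifting_property (π ∘ₗ eB.symm.toLinearMap) q (hπ.comp eB.symm.surjective)
  have hvu : ∀ x, v (u x) - x ∈ IsLocalRing.maximalIdeal R • (⊤ : Submodule R (R × R)) := fun x => by
    refine ker_pairMap_le hf hg h hfm hgm ?_
    rw [LinearMap.mem_ker, map_sub, sub_eq_zero]
    exact (LinearMap.congr_fun hv (u x)).trans (LinearMap.congr_fun hu x)
  have hvs : Function.Surjective v := by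
    rw [← LinearMap.range_eq_top]
    refine top_le_iff.1 (Submodule.le_of_le_smul_of_le_jacobson_bot Module.Finite.fg_top
      (IsLocalRing.maximalIdeal_le_jacobson ⊥) fun x _ => ?_)
    exact Submodule.mem_sup.2 ⟨v (u x), ⟨_, rfl⟩, -(v (u x) - x), neg_mem (hvu x), by abel⟩
  have hvb : Function.Bijective v := OrzechProperty.bijective_of_surjective_endomorphism v hvs
  have hker : LinearMap.ker π ≤ IsLocalRing.maximalIdeal R • (⊤ : Submodule R E) := by
    intro x hx
    let e := LinearEquiv.ofBijective v hvb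
    have h1 : v (eB x) ∈ IsLocalRing.maximalIdeal R • (⊤ : Submodule R (R × R)) := by
      refine ker_pairMap_le hf hg h hfm hgm ?_
      rw [LinearMap.mem_ker]
      refine (LinearMap.congr_fun hv (eB x)).trans ?_
      show π (eB.symm (eB x)) = 0
      rw [LinearEquiv.symm_apply_apply]
      exact hx
    have h2 := Submodule.mem_map_of_mem (f := (e.symm.trans eB.symm).toLinearMap) h1
    rw [Submodule.map_smul''] at h2
    have h3 : (e.symm.trans eB.symm).toLinearMap (v (eB x)) = x := by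
      show eB.symm (e.symm (e (eB x))) = x
      rw [LinearEquiv.symm_apply_apply, LinearEquiv.symm_apply_apply]
    rw [h3] at h2
    exact Submodule.smul_mono le_rfl le_top h2
  haveI : Module.Finite R E := Module.Finite.of_basis b
  rw [← LinearMap.range_eq_top]
  refine top_le_iff.1 (Submodule.le_of_le_smul_of_le_jacobson_bot Module.Finite.fg_top
    (IsLocalRing.maximalIdeal_le_jacobson ⊥) fun x _ => ?_)
  obtain ⟨y, hy⟩ := hl (π x)
  exact Submodule.mem_sup.2 ⟨l y, ⟨_, rfl⟩, x - l y,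
    hker (by rw [LinearMap.mem_ker, map_sub, sub_eq_zero]; exact hy.symm), by abel⟩

end Alg

section Proj

variable {k : Type u} [Field k] {n : ℕ} {Y : Scheme.{u}} (i : Y ⟶ CohB1.ProjSpace n k) [IsClosedImmersion i]

theorem nonempty_tensorPow_one (j : ℕ) :
    Nonempty (CohB1.tensorPow (Twist.twistProjSpace n k 1) j ≅ Twist.twistProjSpace n k (j : ℤ)) := by
  induction j with
  | zero => exact ⟨(GrTilde.nonempty_structureModule_iso_twist_zero (CohB1.polyGrading n k)).some ≪≫
      eqToIso (by simp; rfl)⟩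
  | succ j ih =>
    obtain ⟨e⟩ := ih
    obtain ⟨t⟩ := GrTilde.nonempty_twist_tensor_twist (𝒜 := CohB1.polyGrading n k) SerrePn27.exists_notMem'
      (j : ℤ) 1
    exact ⟨Ample.LineData.tensorModMapIso e (Iso.refl _) ≪≫ t ≪≫ eqToIso (by push_cast; rfl)⟩

/-- A positive twist is not trivial on a codimension two subscheme of dimension at least one. -/
theorem false_of_trivial (hlci : RegImm.IsRegularImmersionOfCodim RegImm.Kind.regular 2 i) (hn : 3 ≤ n) [Nonempty Y]
    (m : ℕ) (hm : 0 < m)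
    (e : (Scheme.Modules.pullback i).obj (Twist.twistProjSpace n k (m : ℤ)) ≅ Coh.structureModule Y) : False := by
  haveI := Chow.isProper_toSpec n k
  haveI : IsLocallyNoetherian (CohB1.ProjSpace n k) :=
    LocallyOfFiniteType.isLocallyNoetherian (CohB1.ProjSpace.toSpec n k)
  obtain ⟨t⟩ := nonempty_tensorPow_one (k := k) (n := n) m
  have hA : CohB1.IsAmple (Twist.twistProjSpace n k (m : ℤ)) := (Ample.isAmple_iff_of_iso t).1
    ((Ample.isAmple_tensorPow_iff (ProjPic26.isInvertible_twistProjSpace n k 1) hm).1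
      (Ample.isAmple_twistProjSpace_one n k))
  haveI : Y.IsQuasiAffine := Ample.isQuasiAffine_iff.2
    ((Ample.isAmple_iff_of_iso e).1 (Ample.isAmple_pullback_of_isAffineHom i hA))
  let q := i ≫ CohB1.ProjSpace.toSpec n k
  haveI : IsProper q := inferInstance
  haveI : Scheme.IsQuasiAffine ((q ⁻¹ᵁ ⊤ : Y.Opens) : Scheme.{u}) := IndQA.qa_of_iso (Scheme.topIso Y)
  have hY : IsAffineOpen (q ⁻¹ᵁ ⊤) := CurveMult.isAffineOpen_of_isProper_of_isQuasiAffine q (isAffineOpen_top _)
  haveI : IsAffine Y := IsAffine.of_isIso (Scheme.topIso Y).inv (h := hY)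
  haveI : IsFinite q := IsFinite.iff_isProper_and_isAffineHom.2 ⟨inferInstance, inferInstance⟩
  have hfib : (q ⁻¹' {default}).Finite := q.finite_preimage_singleton _
  haveI : Finite Y := Set.finite_univ_iff.1 (hfib.subset fun y _ => Subsingleton.elim _ _)
  haveI : JacobsonSpace Y := LocallyOfFiniteType.jacobsonSpace q
  have hcl : ∀ y : Y, IsClosed ({y} : Set Y) := fun y => (inferInstance : DiscreteTopology Y) |> fun _ => isClosed_discrete _
  obtain ⟨z⟩ := ‹Nonempty Y›
  have hY0 : ringKrullDim (Y.presheaf.stalk z) = 0 := by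
    rw [ringKrullDim_stalk_eq_coheight]
    have : Order.coheight z = 0 := Order.coheight_eq_zero.2 fun w hw => by
      have hz : z ⤳ w ∨ w ⤳ z := by first | exact Or.inl hw | exact Or.inr hw
      rcases hz with hz | hz
      · exact le_of_eq ((hcl z).closure_eq ▸ hz.mem_closure : w ∈ ({z} : Set Y))
      · exact le_of_eq ((hcl w).closure_eq ▸ hz.mem_closure : z ∈ ({w} : Set Y)).symm
    rw [this]; rfl
  have hiz : IsClosed ({i z} : Set ↥(CohB1.ProjSpace n k)) := by
    rw [← Set.image_singleton]; exact i.isClosedEmbedding.isClosedMap _ (hcl z)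
  have h1 := CodimExt27.ptDim_add_dim_stalk (CohB1.ProjSpace.toSpec n k) (LciDual27.dim_components_proj n) (i z)
  rw [Kleiman.ptDim_eq_zero_of_isClosed hiz, zero_add] at h1
  obtain ⟨f, g, hreg, hfm, hgm, hst⟩ := exists_pair_range i hlci z
  obtain ⟨W, hzW, -, f', hf'⟩ := FundIso27.exists_frame_nhd i hlci z ⊤ trivial
  have hker : RingHom.ker (i.stalkMap z).hom = Ideal.ofList [f, g] := by
    rw [RegSeqLoc.ker_stalkMap i z W hzW, ← Goodman.st_eq i.ker W hzW, hst, Ideal.ofList]
    congr 1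
    ext r
    simp
  have hR : IsRegular ((CohB1.ProjSpace n k).presheaf.stalk (i z)) [f, g] := ⟨hreg, by
    rw [smul_eq_mul, Ideal.mul_top, ← hker]; exact (RingHom.ker_ne_top _).symm⟩
  have h2 := ringKrullDim_add_length_eq_ringKrullDim_of_isRegular [f, g] hR
  rw [ringKrullDim_eq_of_ringEquiv ((Ideal.quotEquivOfEq hker.symm).trans
    (RingHom.quotientKerEquivOfSurjective (i.stalkMap_surjective z))), hY0, h1, zero_add] at h2
  have : n = 2 := by exact_mod_cast h2.symm
  omega

/-- Isomorphisms away from nothing: a twist trivial on the subscheme is trivial. -/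
theorem eq_zero_of_trivial (hlci : RegImm.IsRegularImmersionOfCodim RegImm.Kind.regular 2 i) (hn : 3 ≤ n) [Nonempty Y]
    (d : ℤ) (e : (Scheme.Modules.pullback i).obj (Twist.twistProjSpace n k d) ≅ Coh.structureModule Y) : d = 0 := by
  by_contra hd
  rcases lt_or_gt_of_ne hd with h | h
  · obtain ⟨m, rfl⟩ : ∃ m : ℕ, d = -(m : ℤ) := ⟨(-d).toNat, by omega⟩
    obtain ⟨t⟩ := CMReg.nonempty_twist_add (n := n) (k := k) (add_neg_cancel (m : ℤ))
    obtain ⟨z⟩ := CMReg.nonempty_twist_zero (n := n) (k := k)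
    obtain ⟨P⟩ := Ample.nonempty_pullback_tensorMod i (ProjPic26.isInvertible_twistProjSpace n k (m : ℤ))
      (ProjPic26.isInvertible_twistProjSpace n k (-(m : ℤ)))
    exact false_of_trivial i hlci hn m (by omega)
      ((OX.tensorUnitLeftIso _).symm ≪≫ GrTilde.tensorModComm (X := Y) _ _ ≪≫
        Ample.LineData.tensorModMapIso (Iso.refl _) e.symm ≪≫ P.symm ≪≫
        (Scheme.Modules.pullback i).mapIso (t ≪≫ z) ≪≫ OX.pullUnitIso i)
  · obtain ⟨m, rfl⟩ : ∃ m : ℕ, d = (m : ℤ) := ⟨d.toNat, by omega⟩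
    exact false_of_trivial i hlci hn m (by omega) e

local notation "Pn" => CohB1.ProjSpace n k

/-- A splitting gives two equations. -/
theorem exists_epi_of_split (c : ℤ) {E Q : (Pn).Modules} (p : E ⟶ Q) [Epi p]
    (e₃ : Q ≅ CohB1.tensorMod (ClSub.idealMod i.ker) (Twist.twistProjSpace n k c))
    {a' b' : ℤ} (e : E ≅ Twist.twistProjSpace n k a' ⊞ Twist.twistProjSpace n k b') :
    ∃ (a b : ℤ) (ψ : Twist.twistProjSpace n k (-a) ⊞ Twist.twistProjSpace n k (-b) ⟶ ClSub.idealMod i.ker),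
      Epi ψ := by
  obtain ⟨ta⟩ := CMReg.nonempty_twist_add (n := n) (k := k) (show a' + -c = -(c - a') by ring)
  obtain ⟨tb⟩ := CMReg.nonempty_twist_add (n := n) (k := k) (show b' + -c = -(c - b') by ring)
  obtain ⟨can⟩ := SerrePn27.nonempty_Ft_Ft_cancel (ClSub.idealMod i.ker) (a := c) (b := -c) (add_neg_cancel c)
  let T := Euler.tF (Twist.twistProjSpace n k (-c))
  haveI : PreservesColimitsOfSize.{0, 0} T :=
    inferInstanceAs (PreservesColimitsOfSize.{0, 0} ((DCoh.tensorBi (X := Pn)).flip.obj _))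
  haveI := preservesBinaryBiproducts_of_preservesBinaryCoproducts T
  haveI : Epi (T.map (e.inv ≫ p ≫ e₃.hom)) := inferInstance
  let ua : T.obj (Twist.twistProjSpace n k a') ≅ Twist.twistProjSpace n k (-(c - a')) := ta
  let ub : T.obj (Twist.twistProjSpace n k b') ≅ Twist.twistProjSpace n k (-(c - b')) := tb
  let uj : T.obj (CohB1.tensorMod (ClSub.idealMod i.ker) (Twist.twistProjSpace n k c)) ≅ ClSub.idealMod i.ker := can
  exact ⟨c - a', c - b', (biprod.mapIso ua ub).inv ≫ (T.mapBiprod _ _).inv ≫ T.map (e.inv ≫ p ≫ e₃.hom) ≫ uj.hom,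
    inferInstance⟩

/-- Two equations give a splitting. -/
theorem exists_split_of_epi (hlci : RegImm.IsRegularImmersionOfCodim RegImm.Kind.regular 2 i) (hn : 3 ≤ n) (c : ℤ)
    (S : ShortComplex (Pn).Modules) (hS : S.ShortExact) (hE : FlatMod.IsFinLocFreeOfRank 2 S.X₂)
    (e₁ : S.X₁ ≅ Coh.structureModule (Pn))
    (e₃ : S.X₃ ≅ CohB1.tensorMod (ClSub.idealMod i.ker) (Twist.twistProjSpace n k c))
    {a b : ℤ} (ψ : Twist.twistProjSpace n k (-a) ⊞ Twist.twistProjSpace n k (-b) ⟶ ClSub.idealMod i.ker) [Epi ψ] :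
    ∃ a' b' : ℤ, Nonempty (S.X₂ ≅ Twist.twistProjSpace n k a' ⊞ Twist.twistProjSpace n k b') := by
  classical
  haveI := Chow.isProper_toSpec n k
  haveI : IsLocallyNoetherian (Pn) := LocallyOfFiniteType.isLocallyNoetherian (CohB1.ProjSpace.toSpec n k)
  haveI : IsIntegral (Pn) := ProjDim.isIntegral_proj k n
  haveI : HasExt.{u} (Pn).Modules := ModSupp25.hasExt_mod (Pn).sheaf
  obtain ⟨z⟩ := CMReg.nonempty_twist_zero (n := n) (k := k)
  have hext : ∀ (d : ℤ), Subsingleton (Ext (Twist.twistProjSpace n k d) S.X₁ 1) := fun d => by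
    refine (SerrePn27.subsingleton_ext_iff_of_iso (Iso.refl _) (e₁ ≪≫ z.symm) 1).2 ?_
    exact subsingleton_ext_twist d 0 le_rfl (by omega)
  haveI := hS.epi_g
  by_cases hY : Nonempty Y
  swap
  · haveI : IsEmpty Y := not_nonempty_iff.1 hY
    haveI : IsIso (ClSub.idealModι i.ker) := (OX.isIso_iff _).2 fun x =>
      (ConcreteCategory.isIso_iff_bijective _).2 (HodgeIndex.stalk_bijective_idealModι i.ker (by
        rw [Scheme.Hom.support_ker, i.isClosedEmbedding.isClosed_range.closure_eq]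
        rintro ⟨y, -⟩; exact isEmptyElim y))
    let e₃' : S.X₃ ≅ Twist.twistProjSpace n k c := e₃ ≪≫
      (Euler.tF (Twist.twistProjSpace n k c)).mapIso (asIso (ClSub.idealModι i.ker)) ≪≫ OX.tensorUnitLeftIso _
    obtain ⟨σ, hσ⟩ := Tango28.exists_lift hS (hext c) e₃'.inv
    have hσ' : (e₃'.hom ≫ σ) ≫ S.g = 𝟙 _ := by rw [Category.assoc, hσ, Iso.hom_inv_id]
    haveI := hS.mono_f
    let spl := ShortComplex.Splitting.ofExactOfSection S hS.exact (e₃'.hom ≫ σ) hσ' inferInstance
    exact ⟨0, c, ⟨spl.isoBinaryBiproduct ≪≫ biprod.mapIso (e₁ ≪≫ z.symm) e₃'⟩⟩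
  haveI := hY
  let T := Euler.tF (Twist.twistProjSpace n k c)
  haveI : PreservesColimitsOfSize.{0, 0} T :=
    inferInstanceAs (PreservesColimitsOfSize.{0, 0} ((DCoh.tensorBi (X := Pn)).flip.obj _))
  haveI := preservesBinaryBiproducts_of_preservesBinaryCoproducts T
  obtain ⟨ta⟩ := CMReg.nonempty_twist_add (n := n) (k := k) (show -a + c = c - a by ring)
  obtain ⟨tb⟩ := CMReg.nonempty_twist_add (n := n) (k := k) (show -b + c = c - b by ring)
  let L := Twist.twistProjSpace n k (-a) ⊞ Twist.twistProjSpace n k (-b)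
  let ua : T.obj (Twist.twistProjSpace n k (-a)) ≅ Twist.twistProjSpace n k (c - a) := ta
  let ub : T.obj (Twist.twistProjSpace n k (-b)) ≅ Twist.twistProjSpace n k (c - b) := tb
  let uG : T.obj L ≅ Twist.twistProjSpace n k (c - a) ⊞ Twist.twistProjSpace n k (c - b) :=
    T.mapBiprod _ _ ≪≫ biprod.mapIso ua ub
  let u₃ : T.obj (ClSub.idealMod i.ker) ≅ S.X₃ := e₃.symm
  let ψ' := uG.inv ≫ T.map ψ ≫ u₃.hom
  obtain ⟨la, hla⟩ := Tango28.exists_lift hS (hext (c - a)) (biprod.inl ≫ ψ')
  obtain ⟨lb, hlb⟩ := Tango28.exists_lift hS (hext (c - b)) (biprod.inr ≫ ψ')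
  let lam : T.obj L ⟶ S.X₂ := uG.hom ≫ biprod.desc la lb
  have hlam : lam ≫ S.g = T.map ψ ≫ u₃.hom := by
    have hd : biprod.desc la lb ≫ S.g = ψ' := by apply biprod.hom_ext' <;> simp [hla, hlb]
    rw [show lam ≫ S.g = uG.hom ≫ biprod.desc la lb ≫ S.g from Category.assoc _ _ _, hd]
    exact uG.hom_inv_id_assoc _
  have hL2 : FlatMod.IsFinLocFreeOfRank 2 L := PBDeg.isFinLocFreeOfRank_biprod
    (Euler.isFinLocFreeOfRank_one' (ProjPic26.isInvertible_twistProjSpace n k (-a)))
    (Euler.isFinLocFreeOfRank_one' (ProjPic26.isInvertible_twistProjSpace n k (-b)))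
  let S₀ := ShortComplex.mk (kernel.ι ψ) ψ (kernel.condition ψ)
  have hS₀ : S₀.ShortExact := { exact := ShortComplex.exact_of_f_is_kernel _ (kernelIsKernel ψ) }
  obtain ⟨r, hr⟩ := ModelK.exists_rank_connected (isFinLocFree_kernel i hlci (FinCov.isFinLocFree_of_rank hL2) ψ)
  have hr1 : r = 1 := by
    letI : (Pn).Over (Spec (CommRingCat.of k)) := ⟨CohB1.ProjSpace.toSpec n k⟩
    haveI : IsProper (Pn ↘ Spec (CommRingCat.of k)) := Chow.isProper_toSpec n k
    haveI := Euler.isNoetherian_of_proper (X := Pn) k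
    have h := Euler.grank_additive hS₀ (Euler.isCoh_of_isFinLocFree (FinCov.isFinLocFree_of_rank hL2))
    rw [Euler.grank_of_locFree hL2, Euler.grank_of_locFree hr, grank_idealMod i hlci] at h
    omega
  subst hr1
  let N := T.obj (kernel ψ)
  have hN : PicF.IsInvertible N := Ample.isInvertible_tensorMod (CurveMult.isInvertible_of_rank_one hr)
    (ProjPic26.isInvertible_twistProjSpace n k c)
  have hT : (S₀.map T).ShortExact := OX.tensor_map_shortExact
    (OX.flat_of_isFinLocFree (Euler.isFinLocFree_of_isInvertible (ProjPic26.isInvertible_twistProjSpace n k c))) hS₀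
  haveI := hS.mono_f
  have hz0 : ((S₀.map T).f ≫ lam) ≫ S.g = 0 := by
    rw [Category.assoc, hlam, ← Category.assoc]
    show ((S₀.map T).f ≫ (S₀.map T).g) ≫ u₃.hom = 0
    rw [(S₀.map T).zero, zero_comp]
  let μ : N ⟶ S.X₁ := hS.exact.lift ((S₀.map T).f ≫ lam) hz0
  have hμ : μ ≫ S.f = (S₀.map T).f ≫ lam := hS.exact.lift_f _ hz0
  have hsurj : ∀ y : Y, Function.Surjective (stalkLin μ (i y)) := by
    intro y
    obtain ⟨f, g, hreg, hfm, hgm, hst⟩ := exists_pair_range i hlci y
    have h := (OX.shortExact_iff _).1 hS (i y)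
    have hs : Function.Injective (stalkLin S.f (i y)) := (ModuleCat.mono_iff_injective _).1 h.mono_f
    have hp : Function.Surjective (stalkLin S.g (i y)) := (ModuleCat.epi_iff_surjective _).1 h.epi_g
    have hex : Function.Exact (stalkLin S.f (i y)) (stalkLin S.g (i y)) :=
      (ShortComplex.ShortExact.moduleCat_exact_iff_function_exact _).1 h.exact
    have h' := (OX.shortExact_iff _).1 hT (i y)
    have hq : Function.Surjective (stalkLin (T.map ψ) (i y)) := (ModuleCat.epi_iff_surjective _).1 h'.epi_g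
    have hex' : Function.Exact (stalkLin (S₀.map T).f (i y)) (stalkLin (S₀.map T).g (i y)) :=
      (ShortComplex.ShortExact.moduleCat_exact_iff_function_exact _).1 h'.exact
    obtain ⟨D, e, hxD, he⟩ := FinCov.exists_frame_nhd_of_rank hE (i y)
    obtain ⟨bE⟩ := Euler.stalk_basis_of_frame he hxD
    obtain ⟨θ⟩ := Euler.nonempty_stalk_equiv_pi (M := ClSub.idealMod i.ker)
      (Euler.isFinLocFreeOfRank_one' (ProjPic26.isInvertible_twistProjSpace n k c)) (i y)
    let θ₃ : S.X₃.presheaf.stalk (i y) ≃ₗ[(Pn).presheaf.stalk (i y)] Goodman.st i.ker (i y) :=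
      ((OX.stalk (i y)).mapIso e₃).toLinearEquiv ≪≫ₗ θ ≪≫ₗ LinearEquiv.funUnique (Fin 1) _ _ ≪≫ₗ
        LinearEquiv.ofInjective (OmegaBC.sval i.ker (i y)) (OmegaBC.sval_injective i.ker (i y))
    have hu : Function.Surjective (stalkLin u₃.hom (i y)) := ((OX.stalk (i y)).mapIso u₃).toLinearEquiv.surjective
    have hl : Function.Surjective (stalkLin lam (i y)) := by
      refine surjective_of_cover hst hreg hfm hgm bE (θ₃.toLinearMap ∘ₗ stalkLin S.g (i y))
        (θ₃.surjective.comp hp) _ fun v => ?_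
      obtain ⟨v', rfl⟩ := θ₃.surjective v
      obtain ⟨w, rfl⟩ := hu v'
      obtain ⟨m, rfl⟩ := hq w
      refine ⟨m, congrArg θ₃ ?_⟩
      rw [← QCoh.stalkLin_comp, ← QCoh.stalkLin_comp, hlam]
    intro v
    obtain ⟨w, hw⟩ := hl (stalkLin S.f (i y) v)
    have hw0 : stalkLin (S₀.map T).g (i y) w = 0 := by
      have h1 : stalkLin S.g (i y) (stalkLin lam (i y) w) = 0 := by rw [hw]; exact (hex _).2 ⟨v, rfl⟩
      rw [← QCoh.stalkLin_comp, hlam, QCoh.stalkLin_comp] at h1
      exact ((OX.stalk (i y)).mapIso u₃).toLinearEquiv.injective (h1.trans (map_zero _).symm)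
    obtain ⟨m, hm⟩ := (hex' w).1 hw0
    refine ⟨m, hs ?_⟩
    rw [← hw, ← hm]
    exact (QCoh.stalkLin_comp μ S.f (i y) m).symm.trans
      ((congrArg (fun q => stalkLin q (i y) m) hμ).trans (QCoh.stalkLin_comp (S₀.map T).f lam (i y) m))
  obtain ⟨y₀⟩ := hY
  obtain ⟨d, ⟨eN⟩⟩ := ProjPic26.exists_iso_twist (n := n) (R := k) hN
  let eN' : N ≅ Twist.twistProjSpace n k d := eN
  let μ' : Twist.twistProjSpace n k d ⟶ Coh.structureModule (Pn) := eN'.inv ≫ μ ≫ e₁.hom
  have hsurj' : ∀ y : Y, Function.Surjective (stalkLin μ' (i y)) := fun y v => by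
    obtain ⟨v', rfl⟩ := ((OX.stalk (i y)).mapIso e₁).toLinearEquiv.surjective v
    obtain ⟨m, rfl⟩ := hsurj y v'
    refine ⟨stalkLin eN'.hom (i y) m, ?_⟩
    rw [← QCoh.stalkLin_comp, show eN'.hom ≫ μ' = μ ≫ e₁.hom from eN'.hom_inv_id_assoc _, QCoh.stalkLin_comp]
    rfl
  have hd : d = 0 := by
    let I := Scheme.Modules.pullback i
    haveI : Epi (I.map μ') := (OX.epi_iff _).2 fun y => (ModuleCat.epi_iff_surjective _).2 (by
      refine surjective_stalk_of_notMem _ fun hy => ?_
      haveI : PreservesColimitsOfSize.{0, 0} I :=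
        (Scheme.Modules.pullbackPushforwardAdjunction i).leftAdjoint_preservesColimits
      have hC : Coh.IsCoh (cokernel μ') := QCoh.isCoh_cokernel μ'
        (Euler.isCoh_of_isInvertible (ProjPic26.isInvertible_twistProjSpace n k d))
        (Euler.isCoh_of_isInvertible Euler.isInvertible_structure)
      rw [← QCoh.support_eq_of_iso (PreservesCokernel.iso I μ'), QCoh.support_pullback i _ hC] at hy
      exact QCoh.notMem_support_cokernel_of_surjective μ' (hsurj' y) hy)
    haveI : IsIso (I.map μ') := Algz56.isIso_of_epi_invertible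
      (Ample.isInvertible_pullback i (ProjPic26.isInvertible_twistProjSpace n k d))
      (Ample.isInvertible_pullback i Euler.isInvertible_structure) _
    exact eq_zero_of_trivial i hlci hn d (asIso (I.map μ') ≪≫ OX.pullUnitIso i)
  subst hd
  obtain ⟨t, ht⟩ := Tango28.exists_eq_smul_id (n := n) (k := k) 0 (μ' ≫ z.inv)
  have ht0 : t ≠ 0 := fun ht0 => by
    rw [ht0, zero_smul] at ht
    have h0 : μ' = 0 := by
      rw [← cancel_mono z.inv, zero_comp]; exact ht
    obtain ⟨m, hm⟩ := hsurj' y₀ (HomSh.unitStalk (i y₀) 1)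
    rw [h0] at hm
    have hm0 : stalkLin (0 : Twist.twistProjSpace n k 0 ⟶ Coh.structureModule (Pn)) (i y₀) m = 0 :=
      LinearMap.congr_fun (congrArg ModuleCat.Hom.hom
        ((OX.stalk (i y₀)).map_zero (Twist.twistProjSpace n k 0) (Coh.structureModule (Pn)))) m
    exact one_ne_zero ((HomSh.unitStalk (i y₀)).map_eq_zero_iff.1 (hm.symm.trans hm0))
  haveI : IsIso (μ' ≫ z.inv) := ht ▸ ⟨t⁻¹ • 𝟙 _, by simp [smul_smul, ht0], by simp [smul_smul, ht0]⟩
  haveI : IsIso μ' := IsIso.of_isIso_comp_right μ' z.inv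
  haveI : IsIso μ := by
    have : μ = eN'.hom ≫ μ' ≫ e₁.inv := by simp [μ']
    rw [this]; infer_instance
  let Φ : S₀.map T ⟶ S :=
    { τ₁ := μ, τ₂ := lam, τ₃ := u₃.hom, comm₁₂ := hμ, comm₂₃ := hlam }
  haveI : IsIso Φ.τ₁ := ‹IsIso μ›
  haveI : IsIso Φ.τ₃ := (inferInstance : IsIso u₃.hom)
  haveI : IsIso lam := ShortComplex.isIso₂_of_shortExact_of_isIso₁₃ Φ hT hS
  exact ⟨c - a, c - b, ⟨(asIso lam).symm ≪≫ uG⟩⟩

end Proj

end GrothLib.SerreCor28
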