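import Mathlib.CategoryTheory.Abelian.Refinements
import Mathlib.Algebra.Homology.ShortComplex.ShortExact
import Mathlib.RingTheory.Regular.RegularSequence
import Mathlib.Algebra.Module.Projective
import Mathlib.RingTheory.KrullDimension.Regular

/-!
# Algebra for the Serre correspondence
-/

set_option autoImplicit false
set_option linter.style.haveILetI false
universe v u w

open CategoryTheory CategoryTheory.Limits RingTheory.Sequence

namespace GrothLib.SerreCor28

section Cat

variable {C : Type u} [Category.{v} C] [Abelian C] {O A D Q : C} (a : O ⟶ D) (β : A ⟶ D) (q : D ⟶ Q)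
  (w : β ≫ q = 0) (hq : (ShortComplex.mk β q w).Exact) [Epi q] [Epi (a ≫ q)]

include hq in
theorem epi_desc : Epi (biprod.desc a (-β)) := by
  rw [Preadditive.epi_iff_cancel_zero]
  intro T t ht
  have ha : a ≫ t = 0 := by simpa using congrArg (biprod.inl ≫ ·) ht
  have hb : β ≫ t = 0 := by simpa using congrArg (biprod.inr ≫ ·) ht
  have e : q ≫ hq.desc t hb = t := hq.g_desc t hb
  have : hq.desc t hb = 0 := by
    rw [← cancel_epi (a ≫ q), Category.assoc, e, ha, comp_zero]
  rw [← e, this, comp_zero]

include hq in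
/-- The kernel of `O ⊞ A ⟶ D` is an extension of the kernel of `O ⟶ Q` by the kernel of `A ⟶ D`. -/
theorem exists_ses : ∃ (m : kernel β ⟶ kernel (biprod.desc a (-β)))
    (p : kernel (biprod.desc a (-β)) ⟶ kernel (a ≫ q)) (w' : m ≫ p = 0),
    (ShortComplex.mk m p w').ShortExact := by
  let u := biprod.desc a (-β)
  let N := kernel u
  have hN : (kernel.ι u ≫ biprod.fst) ≫ a = (kernel.ι u ≫ biprod.snd) ≫ β := by
    rw [← sub_eq_zero]
    have h' := (congrArg (kernel.ι u ≫ ·) (show u = biprod.fst ≫ a + biprod.snd ≫ (-β) from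
      biprod.hom_ext' _ _ (by simp [u]) (by simp [u]))).symm.trans (kernel.condition u)
    simpa [Preadditive.comp_add, Category.assoc, sub_eq_add_neg] using h'
  let m : kernel β ⟶ N := kernel.lift u (kernel.ι β ≫ biprod.inr) (by simp [u, kernel.condition])
  let p : N ⟶ kernel (a ≫ q) := kernel.lift (a ≫ q) (kernel.ι u ≫ biprod.fst)
    (by rw [← Category.assoc, hN, Category.assoc, w, comp_zero])
  have w' : m ≫ p = 0 := by ext; simp [m, p]
  have hmm : Mono m := by
    have : Mono (m ≫ kernel.ι u) := by
      rw [kernel.lift_ι]; infer_instance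
    exact mono_of_mono m (kernel.ι u)
  refine ⟨m, p, w', ?_⟩
  have hp : Epi p := by
    rw [epi_iff_surjective_up_to_refinements]
    intro T x
    have hx : (x ≫ kernel.ι (a ≫ q) ≫ a) ≫ q = 0 := by
      simp [kernel.condition]
    obtain ⟨T', π, hπ, y, hy⟩ := hq.exact_up_to_refinements (x ≫ kernel.ι (a ≫ q) ≫ a) hx
    refine ⟨T', π, hπ, kernel.lift u (biprod.lift (π ≫ x ≫ kernel.ι (a ≫ q)) y) ?_, ?_⟩
    · simp only [u, biprod.lift_desc, Preadditive.comp_neg, ← sub_eq_add_neg]
      rw [sub_eq_zero]
      simpa using hy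
    · ext; simp [p]
  have hx : (ShortComplex.mk m p w').Exact := by
    refine ShortComplex.exact_of_f_is_kernel _ (KernelFork.IsLimit.ofι' _ w' fun {T} z hz => ?_)
    have h0 : z ≫ kernel.ι u ≫ biprod.fst = 0 := by
      have := congrArg (· ≫ kernel.ι (a ≫ q)) hz
      simpa [p] using this
    have h1 : (z ≫ kernel.ι u ≫ biprod.snd) ≫ β = 0 := by
      rw [Category.assoc, ← hN, ← Category.assoc, h0, zero_comp]
    refine ⟨kernel.lift β _ h1, ?_⟩
    rw [← cancel_mono (kernel.ι u)]
    apply biprod.hom_ext
    · simp [m, h0]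
    · simp [m]
  exact { exact := hx }

end Cat

section Ring

variable {R : Type u} [CommRing R]

/-- Schanuel: the kernel of a projective cover of a module of projective dimension at most one. -/
theorem projective_ker {P F J : Type w} [AddCommGroup P] [Module R P] [AddCommGroup F] [Module R F]
    [AddCommGroup J] [Module R J] [Module.Projective R P] [Module.Projective R F]
    (q : P →ₗ[R] J) (hq : Function.Surjective q) [Module.Projective R (LinearMap.ker q)]
    (π : F →ₗ[R] J) (hπ : Function.Surjective π) : Module.Projective R (LinearMap.ker π) := by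
  obtain ⟨u, hu⟩ := Module.projective_lifting_property π q hπ
  obtain ⟨v, hv⟩ := Module.projective_lifting_property q π hq
  have hu' : ∀ p, π (u p) = q p := fun p => LinearMap.congr_fun hu p
  have hv' : ∀ z, q (v z) = π z := fun z => LinearMap.congr_fun hv z
  let i : LinearMap.ker π →ₗ[R] LinearMap.ker q × F :=
    LinearMap.prod ((-(v ∘ₗ (LinearMap.ker π).subtype)).codRestrict _ fun x => by
      simp [hv']) (LinearMap.ker π).subtype
  let r : LinearMap.ker q × F →ₗ[R] LinearMap.ker π :=
    (LinearMap.snd R _ _ - u ∘ₗ ((LinearMap.ker q).subtype ∘ₗ LinearMap.fst R _ _ + v ∘ₗ LinearMap.snd R _ _)).codRestrict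
      _ fun x => by simp [hu', hv']
  refine Module.Projective.of_split i r (LinearMap.ext fun x => Subtype.ext ?_)
  show (x : F) - u (-(v (x : F)) + v (x : F)) = x
  rw [neg_add_cancel, map_zero, sub_zero]

/-- The two-term map of a pair. -/
def pairMap (f g : R) (I : Ideal R) (hf : f ∈ I) (hg : g ∈ I) : (R × R) →ₗ[R] I :=
  ((LinearMap.fst R R R).smulRight f + (LinearMap.snd R R R).smulRight g).codRestrict I fun x =>
    I.add_mem (I.mul_mem_left _ hf) (I.mul_mem_left _ hg)

theorem pairMap_surjective {f g : R} {I : Ideal R} (h : I = Ideal.span {f, g}) (hf : f ∈ I) (hg : g ∈ I) :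
    Function.Surjective (pairMap f g I hf hg) := by
  rintro ⟨y, hy⟩
  rw [h, Ideal.mem_span_pair] at hy
  obtain ⟨a, b, hab⟩ := hy
  exact ⟨(a, b), Subtype.ext (by simp [pairMap, hab])⟩

theorem regular_fst {f g : R} (h : IsWeaklyRegular R [f, g]) : IsSMulRegular R f :=
  ((isWeaklyRegular_cons_iff R f [g]).1 h).1

theorem exists_eq_mul {f g : R} (h : IsWeaklyRegular R [f, g]) {a b : R} (e : a * f + b * g = 0) :
    ∃ c, a = -(c * g) ∧ b = c * f := by
  obtain ⟨hf, h2⟩ := (isWeaklyRegular_cons_iff R f [g]).1 h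
  have hg := ((isWeaklyRegular_cons_iff _ g []).1 h2).1
  have h0 : g • (Submodule.Quotient.mk b : QuotSMulTop f R) = 0 := by
    rw [← Submodule.Quotient.mk_smul, Submodule.Quotient.mk_eq_zero, Submodule.mem_smul_pointwise_iff_exists]
    exact ⟨-a, trivial, by simp only [smul_eq_mul]; linear_combination (-1 : R) * e⟩
  have hb : (Submodule.Quotient.mk b : QuotSMulTop f R) = 0 := hg (by show g • _ = g • _; rw [smul_zero]; exact h0)
  rw [Submodule.Quotient.mk_eq_zero, Submodule.mem_smul_pointwise_iff_exists] at hb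
  obtain ⟨c, -, hc⟩ := hb
  rw [smul_eq_mul] at hc
  refine ⟨c, hf (?_ : f • a = f • (-(c * g))), by rw [← hc, mul_comm]⟩
  simp only [smul_eq_mul]
  subst hc
  linear_combination e

theorem projective_ker_pairMap {f g : R} {I : Ideal R} (hf : f ∈ I) (hg : g ∈ I) (h : IsWeaklyRegular R [f, g]) :
    Module.Projective R (LinearMap.ker (pairMap f g I hf hg)) := by
  let i : R →ₗ[R] LinearMap.ker (pairMap f g I hf hg) :=
    ((LinearMap.mulRight R (-g)).prod (LinearMap.mulRight R f)).codRestrict _ fun c =>
      Subtype.ext (by simp [pairMap]; ring)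
  have hi : ∀ c, (i c : R × R) = (c * -g, c * f) := fun c => rfl
  refine Module.Projective.of_equiv (LinearEquiv.ofBijective i ⟨fun c d hcd => ?_, fun x => ?_⟩)
  · have := congrArg (fun z => (z.1).2) hcd
    simp only [hi] at this
    exact regular_fst h (show f • c = f • d by simpa [mul_comm] using this)
  · obtain ⟨⟨a, b⟩, hx⟩ := x
    have e : a * f + b * g = 0 := by simpa [pairMap] using congrArg Subtype.val hx
    obtain ⟨c, rfl, rfl⟩ := exists_eq_mul h e
    exact ⟨c, Subtype.ext ((hi c).trans (by rw [mul_neg]))⟩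

/-- Kernels of covers of ideals generated by a regular pair are projective. -/
theorem projective_ker_of_pair {f g : R} {I : Ideal R} (hI : I = Ideal.span {f, g}) (h : IsWeaklyRegular R [f, g])
    {F : Type u} [AddCommGroup F] [Module R F] [Module.Projective R F] (π : F →ₗ[R] I) (hπ : Function.Surjective π) :
    Module.Projective R (LinearMap.ker π) := by
  have hf : f ∈ I := hI ▸ Ideal.subset_span (by simp)
  have hg : g ∈ I := hI ▸ Ideal.subset_span (by simp)
  haveI := projective_ker_pairMap hf hg h
  exact projective_ker (pairMap f g I hf hg) (pairMap_surjective hI hf hg) π hπ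

theorem two_le_dim [IsNoetherianRing R] [IsLocalRing R] {f g : R} (h : IsWeaklyRegular R [f, g])
    (hf : f ∈ IsLocalRing.maximalIdeal R) (hg : g ∈ IsLocalRing.maximalIdeal R) :
    (2 : WithBot ℕ∞) ≤ ringKrullDim R := by
  have hne : Ideal.ofList [f, g] ≠ ⊤ := fun htop => (IsLocalRing.maximalIdeal.isMaximal R).ne_top
    (top_le_iff.1 (htop ▸ Ideal.span_le.2 (fun r hr => by
      simp only [List.mem_cons, List.not_mem_nil, or_false, Set.mem_setOf_eq] at hr
      rcases hr with rfl | rfl
      · exact hf
      · exact hg)))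
  have hreg : IsRegular R [f, g] := ⟨h, by
    rw [smul_eq_mul, Ideal.mul_top]; exact Ne.symm hne⟩
  rw [← ringKrullDim_add_length_eq_ringKrullDim_of_isRegular [f, g] hreg]
  haveI : Nontrivial (R ⧸ Ideal.ofList [f, g]) := Ideal.Quotient.nontrivial_iff.2 hne
  calc (2 : WithBot ℕ∞) = 0 + 2 := (zero_add _).symm
    _ ≤ _ := add_le_add ringKrullDim_nonneg_of_nontrivial (le_of_eq (by simp))

end Ring

end GrothLib.SerreCor28
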