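import Groth.Agent.Lib.SerreCor28.Stalk
import Groth.Agent.Lib.CanonTriv.Basic
import Groth.Agent.Lib.Algz56.Sheaves
import Groth.Agent.Lib.RankTwo12.Kernel
import Groth.Agent.Lib.CodimExt27.Global
import Groth.Agent.Lib.Euler.TensorSupport
import Groth.Agent.Lib.AffHom.Basic
import Groth.Agent.Lib.ExtPowX.Basic
import Groth.Agent.Lib.CBExt28.Transfer
import Groth.Agent.Lib.SerrePn27.Asymp
import Groth.Agent.Lib.ProjDim.Const

/-!
# The determinant of an extension of a twisted ideal by the structure sheaf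
-/

set_option autoImplicit false
set_option maxHeartbeats 1600000
set_option linter.style.haveILetI false
set_option linter.unusedSectionVars false
set_option backward.isDefEq.respectTransparency false

universe u

open CategoryTheory CategoryTheory.Limits AlgebraicGeometry Opposite TopologicalSpace
open CategoryTheory.Abelian (Ext)
open GrothLib.InvExt (mres fres IsGen)
open GrothLib.QCoh (stalkLin)
open GrothLib.FinCov (IsFrame)

noncomputable section

namespace GrothLib.SerreCor28

section Wedge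

variable {X : Scheme.{u}} {E : X.Modules} (s : Coh.structureModule X ⟶ E)

/-- The value of a section. -/
def sec (U : X.Opens) : Γ(E, U) := s.app U (show Γ(Coh.structureModule X, U) from (1 : Γ(X, U)))

theorem mres_sec {U V : X.Opens} (h : V ≤ U) : mres E h (sec s U) = sec s V := by
  refine (Ample.app_mres s h _).symm.trans ?_
  exact congrArg (fun z => s.app V z) (map_one (X.presheaf.map (homOfLE h).op).hom)

/-- `x ↦ s ∧ x`. -/
def secWedge (U : X.Opens) : Γ(E, U) →ₗ[Γ(X, U)] ↥(⋀[Γ(X, U)]^2 Γ(E, U)) where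
  toFun x := exteriorPower.ιMulti Γ(X, U) 2 ![sec s U, x]
  map_add' x y := by
    have h := (exteriorPower.ιMulti Γ(X, U) 2).map_update_add ![sec s U, x] 1 x y
    have e : ∀ z : Γ(E, U), Function.update ![sec s U, x] 1 z = ![sec s U, z] := fun z => by
      funext j; fin_cases j <;> simp
    rwa [e, e, e] at h
  map_smul' c x := by
    have h := (exteriorPower.ιMulti Γ(X, U) 2).map_update_smul ![sec s U, x] 1 c x
    have e : ∀ z : Γ(E, U), Function.update ![sec s U, x] 1 z = ![sec s U, z] := fun z => by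
      funext j; fin_cases j <;> simp
    rwa [e, e] at h

theorem secWedge_self (U : X.Opens) : secWedge s U (sec s U) = 0 :=
  (exteriorPower.ιMulti Γ(X, U) 2).map_eq_zero_of_eq ![sec s U, sec s U] (i := 0) (j := 1) rfl (by decide)

/-- The map to the determinant given by a section, surjective where the section is not zero. -/
theorem exists_wedgeMap (hE : FlatMod.IsFinLocFreeOfRank 2 E) {D : X.Modules} (hD : ExtPow.IsExtPow 2 E D) :
    ∃ γ : E ⟶ D, s ≫ γ = 0 ∧ ∀ x : X,
      (∃ r : E.presheaf.stalk x →ₗ[X.presheaf.stalk x] X.presheaf.stalk x,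
        ∃ (U : X.Opens) (hx : x ∈ U), r (E.presheaf.germ U x hx (sec s U)) = 1) →
      Function.Surjective (stalkLin γ x) := by
  obtain ⟨φ, hφ⟩ := hD
  let φ₁ : ∀ U : X.affineOpens, Γ(D, U.1) ≃ₗ[Γ(X, U.1)] ↥(⋀[Γ(X, U.1)]^2 Γ(E, U.1)) := φ
  have hφ₁ : ∀ (U V : X.affineOpens) (h : V.1 ≤ U.1) (e : Fin 2 → Γ(E, U.1)),
      mres D h ((φ₁ U).symm (exteriorPower.ιMulti _ 2 e)) =
        (φ₁ V).symm (exteriorPower.ιMulti _ 2 fun j => mres E h (e j)) := hφ
  obtain ⟨γ, hγ⟩ := AffHom.exists_hom (M := E) (N := D)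
    (fun U => (φ₁ U).symm.toLinearMap ∘ₗ secWedge s U.1) fun U V h m => by
    show mres D h ((φ₁ U).symm (exteriorPower.ιMulti _ 2 ![sec s U.1, m])) =
      (φ₁ V).symm (exteriorPower.ιMulti _ 2 ![sec s V.1, mres E h m])
    rw [hφ₁ U V h]
    congr 2
    funext j
    fin_cases j
    · exact mres_sec s h
    · rfl
  refine ⟨γ, ?_, fun x hr => ?_⟩
  · refine AffHom.hom_ext_basis (AffHom.isBasis_affB X) fun (U : X.affineOpens) m => ?_
    show γ.app U.1 (s.app U.1 m) = _
    have hm : s.app U.1 m = (show Γ(X, U.1) from m) • sec s U.1 :=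
      (congrArg (fun z => s.app U.1 z) (show m = (show Γ(X, U.1) from m) •
        (show Γ(Coh.structureModule X, U.1) from (1 : Γ(X, U.1))) from (mul_one (show Γ(X, U.1) from m)).symm)).trans
        (Scheme.Modules.Hom.app_smul s _ _)
    rw [hm, hγ]
    show (φ₁ U).symm (secWedge s U.1 _) = (0 : Γ(D, U.1))
    rw [map_smul, secWedge_self, smul_zero, map_zero]
  · obtain ⟨r, U, hxU, hr⟩ := hr
    obtain ⟨T, e₀, hxT, he₀⟩ := FinCov.exists_frame_nhd_of_rank hE x
    obtain ⟨W, hW, hxW, hWle⟩ := exists_isAffineOpen_mem_and_subset (x := x) (U := U ⊓ T) ⟨hxU, hxT⟩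
    let e : Fin 2 → Γ(E, W) := fun j => mres E (hWle.trans inf_le_right) (e₀ j)
    have he : IsFrame E W e := TensorGen.isFrame_restrict he₀ _
    let g : Γ(D, W) := (φ₁ ⟨W, hW⟩).symm (exteriorPower.ιMulti _ 2 e)
    have hg : IsGen D W g := TensorGen.isGen_wedge hφ (U := ⟨W, hW⟩) he
    let b := he.basis W le_rfl
    let c : Fin 2 → Γ(X, W) := fun j => b.repr (sec s W) j
    have hb : ∀ j, b j = e j := fun j => by
      rw [show e j = mres E (le_refl W) (e j) from (InvExt.mres_self _ _).symm]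
      exact FinCov.IsFrame.basis_apply he W le_rfl j
    have hc : sec s W = c 0 • e 0 + c 1 • e 1 := by
      rw [← b.sum_repr (sec s W), Fin.sum_univ_two, hb, hb]
    let G := X.presheaf.germ W x hxW
    let GE := fun m : Γ(E, W) => E.presheaf.germ W x hxW m
    let GD := fun m : Γ(D, W) => D.presheaf.germ W x hxW m
    have hGE : ∀ (a : Γ(X, W)) (m : Γ(E, W)), GE (a • m) = G a • GE m := fun a m =>
      WeakAss.germ_smul hxW a m
    have hGD : ∀ (a : Γ(X, W)) (m : Γ(D, W)), GD (a • m) = G a • GD m := fun a m =>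
      WeakAss.germ_smul hxW a m
    have h0 : γ.app W (e 0) = (-(c 1)) • g := by
      rw [hγ ⟨W, hW⟩]
      show (φ₁ ⟨W, hW⟩).symm (secWedge s W (e 0)) = _
      rw [show (-(c 1)) • g = (φ₁ ⟨W, hW⟩).symm ((-(c 1)) • exteriorPower.ιMulti _ 2 e) from (map_smul _ _ _).symm]
      congr 1
      show exteriorPower.ιMulti _ 2 ![sec s W, e 0] = _
      rw [hc]
      have hswap : exteriorPower.ιMulti Γ(X, W) 2 ![e 1, e 0] = -exteriorPower.ιMulti Γ(X, W) 2 e := by
        have h := (exteriorPower.ιMulti Γ(X, W) 2).map_swap e (i := 0) (j := 1) (by decide)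
        rw [← h]
        congr 1
        funext j; fin_cases j <;> simp
      have hl : ∀ (a a' : Γ(X, W)) (p q z : Γ(E, W)), exteriorPower.ιMulti Γ(X, W) 2 ![a • p + a' • q, z] =
          a • exteriorPower.ιMulti Γ(X, W) 2 ![p, z] + a' • exteriorPower.ιMulti Γ(X, W) 2 ![q, z] := by
        intro a a' p q z
        let F := exteriorPower.ιMulti Γ(X, W) 2 (M := Γ(E, W))
        have eU : ∀ y : Γ(E, W), Function.update ![p, z] 0 y = ![y, z] := fun y => by
          funext j; fin_cases j <;> simp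
        have h1 := F.map_update_add ![p, z] 0 (a • p) (a' • q)
        rw [F.map_update_smul, F.map_update_smul, eU, eU, eU] at h1
        exact h1
      rw [hl, hswap, show exteriorPower.ιMulti Γ(X, W) 2 ![e 0, e 0] = 0 from
        (exteriorPower.ιMulti Γ(X, W) 2).map_eq_zero_of_eq ![e 0, e 0] (i := 0) (j := 1) rfl (by decide),
        smul_zero, zero_add, smul_neg]
      exact (neg_smul _ _).symm
    have h1 : γ.app W (e 1) = c 0 • g := by
      rw [hγ ⟨W, hW⟩]
      show (φ₁ ⟨W, hW⟩).symm (secWedge s W (e 1)) = _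
      rw [show c 0 • g = (φ₁ ⟨W, hW⟩).symm (c 0 • exteriorPower.ιMulti _ 2 e) from (map_smul _ _ _).symm]
      congr 1
      show exteriorPower.ιMulti _ 2 ![sec s W, e 1] = _
      rw [hc]
      let F := exteriorPower.ιMulti Γ(X, W) 2 (M := Γ(E, W))
      have eU : ∀ y : Γ(E, W), Function.update ![e 0, e 1] 0 y = ![y, e 1] := fun y => by
        funext j; fin_cases j <;> simp
      have h1 := F.map_update_add ![e 0, e 1] 0 (c 0 • e 0) (c 1 • e 1)
      rw [F.map_update_smul, F.map_update_smul, eU, eU, eU,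
        show F ![e 1, e 1] = 0 from F.map_eq_zero_of_eq ![e 1, e 1] (i := 0) (j := 1) rfl (by decide),
        smul_zero, add_zero] at h1
      refine h1.trans (congrArg (fun v => c 0 • F v) ?_)
      funext j; fin_cases j <;> rfl
    have key : G (c 0) * r (GE (e 0)) + G (c 1) * r (GE (e 1)) = 1 := by
      have h : r (GE (c 0 • e 0 + c 1 • e 1)) = G (c 0) * r (GE (e 0)) + G (c 1) * r (GE (e 1)) := by
        rw [show GE (c 0 • e 0 + c 1 • e 1) = GE (c 0 • e 0) + GE (c 1 • e 1) from map_add _ _ _, hGE, hGE,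
          map_add, map_smul, map_smul, smul_eq_mul, smul_eq_mul]
      rw [← h, ← hc, ← mres_sec s (hWle.trans inf_le_left)]
      exact (congrArg r (TopCat.Presheaf.germ_res_apply E.presheaf _ x hxW _)).trans hr
    have hgen : ∀ v : D.presheaf.stalk x, ∃ a : X.presheaf.stalk x, v = a • GD g := by
      intro v
      obtain ⟨O, hxO, m, rfl⟩ := TopCat.Presheaf.exists_germ_eq D.presheaf v
      let V := W ⊓ O
      obtain ⟨a, ha⟩ := hg.exists_smul_eq (inf_le_left : V ≤ W) (mres D (inf_le_right : V ≤ O) m)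
      refine ⟨X.presheaf.germ V x ⟨hxW, hxO⟩ a, ?_⟩
      rw [← TopCat.Presheaf.germ_res_apply D.presheaf (homOfLE (inf_le_right : V ≤ O)) x ⟨hxW, hxO⟩ m]
      refine (congrArg _ ha).trans ((WeakAss.germ_smul (F := D) (show x ∈ V from ⟨hxW, hxO⟩) a _).trans ?_)
      exact congrArg (_ • ·) (TopCat.Presheaf.germ_res_apply D.presheaf _ x _ g)
    have hu : IsUnit (G (c 0)) ∨ IsUnit (G (c 1)) :=
      (IsLocalRing.isUnit_or_isUnit_of_add_one key).imp isUnit_of_mul_isUnit_left isUnit_of_mul_isUnit_left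
    intro v
    obtain ⟨a, rfl⟩ := hgen v
    rcases hu with hu | hu
    · obtain ⟨a', ha'⟩ := hu.exists_left_inv
      refine ⟨(a * a') • GE (e 1), ?_⟩
      rw [map_smul, show stalkLin γ x (GE (e 1)) = GD (γ.app W (e 1)) from QCoh.stalkLin_germ γ hxW (e 1),
        h1, hGD, smul_smul, mul_assoc, ha', mul_one]
    · obtain ⟨a', ha'⟩ := hu.exists_left_inv
      refine ⟨(-(a * a')) • GE (e 0), ?_⟩
      rw [map_smul, show stalkLin γ x (GE (e 0)) = GD (γ.app W (e 0)) from QCoh.stalkLin_germ γ hxW (e 0),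
        h0, hGD, smul_smul, map_neg, neg_mul_neg, mul_assoc, ha', mul_one]

end Wedge

section Support

variable {X : Scheme.{u}}

theorem surjective_stalk_of_notMem {M N : X.Modules} (f : M ⟶ N) {x : X}
    (h : x ∉ CohB1.support (cokernel f)) : Function.Surjective (stalkLin f x) := by
  intro v
  haveI := QCoh.stalk_subsingleton_of_notMem h
  have he := (OX.exact_iff (ShortComplex.mk f (cokernel.π f) (cokernel.condition f))).1
    (ShortComplex.exact_of_g_is_cokernel _ (cokernelIsCokernel f)) x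
  rw [ShortComplex.moduleCat_exact_iff] at he
  exact he v (Subsingleton.elim (α := (cokernel f).presheaf.stalk x) _ _)

/-- Surjectivity on stalks survives tensoring by a bundle. -/
theorem surjective_stalk_tF {M N E : X.Modules} {r : ℕ} (hE : FlatMod.IsFinLocFreeOfRank r E) (g : M ⟶ N) {x : X}
    (h : Function.Surjective (stalkLin g x)) : Function.Surjective (stalkLin ((Euler.tF E).map g) x) := by
  refine surjective_stalk_of_notMem _ fun hx => QCoh.notMem_support_cokernel_of_surjective g h ?_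
  haveI : PreservesColimitsOfSize.{0, 0} (Euler.tF E) :=
    inferInstanceAs (PreservesColimitsOfSize.{0, 0} ((DCoh.tensorBi (X := X)).flip.obj E))
  rw [← QCoh.support_eq_of_iso (PreservesCokernel.iso (Euler.tF E) g)] at hx
  exact Euler.support_tF_subset hE hx

end Support

section Proj

variable {k : Type u} [Field k] {n : ℕ} {Y : Scheme.{u}} (i : Y ⟶ CohB1.ProjSpace n k) [IsClosedImmersion i]

local notation "Pn" => CohB1.ProjSpace n k

theorem genericPoint_notMem' [IsIntegral (Pn)]
    (hlci : RegImm.IsRegularImmersionOfCodim RegImm.Kind.regular 2 i) : genericPoint (Pn) ∉ Set.range i := by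
  rintro ⟨z, hz⟩
  have h := two_le_dim_stalk i hlci z
  rw [hz, ringKrullDim_stalk_eq_coheight, Ref1.coheight_genericPoint] at h
  exact absurd h (by norm_num)

/-- The determinant of an extension of `J(c)` by `O` is `O(c)`. -/
theorem nonempty_det_iso (hlci : RegImm.IsRegularImmersionOfCodim RegImm.Kind.regular 2 i) {E Q : (Pn).Modules}
    (s : Coh.structureModule (Pn) ⟶ E) (p : E ⟶ Q) (w : s ≫ p = 0) (hS : (ShortComplex.mk s p w).ShortExact)
    (hE : FlatMod.IsFinLocFreeOfRank 2 E) (c : ℤ)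
    (e₃ : Q ≅ CohB1.tensorMod (ClSub.idealMod i.ker) (Twist.twistProjSpace n k c))
    {D : (Pn).Modules} (hD : ExtPow.IsExtPow 2 E D) : Nonempty (D ≅ Twist.twistProjSpace n k c) := by
  classical
  haveI := Chow.isProper_toSpec n k
  haveI : IsLocallyNoetherian (Pn) := LocallyOfFiniteType.isLocallyNoetherian (CohB1.ProjSpace.toSpec n k)
  haveI : IsIntegral (Pn) := ProjDim.isIntegral_proj k n
  haveI : HasInjectiveResolutions (ModSite.Mod (Pn).sheaf) := ExtTilde20.hasInjectiveResolutions_mod _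
  haveI : HasExt.{u} (Pn).Modules := ModSupp25.hasExt_mod (Pn).sheaf
  haveI : ∀ M : (Pn).Modules, ModSite.HasSheafHom (O := (Pn).sheaf) M := fun M => SheafCoh.hasSheafHom _ _
  let J := ClSub.idealMod i.ker
  let Oc := Twist.twistProjSpace n k c
  let N := Twist.twistProjSpace n k (-c)
  have hN1 := Euler.isFinLocFreeOfRank_one' (ProjPic26.isInvertible_twistProjSpace n k (-c))
  have hOc1 := Euler.isFinLocFreeOfRank_one' (ProjPic26.isInvertible_twistProjSpace n k c)
  have hDi := CanonTriv.isInvertible_of_isExtPow hE hD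
  have hout : ∀ {x : ↥(Pn)}, x ∉ Set.range i → x ∉ (i.ker.support : Set ↥(Pn)) := fun hx => by
    rw [Scheme.Hom.support_ker, i.isClosedEmbedding.isClosed_range.closure_eq]; exact hx
  obtain ⟨γ, hγ0, hγ⟩ := exists_wedgeMap s hE hD
  haveI : Epi (ShortComplex.mk s p w).g := hS.epi_g
  let g : Q ⟶ D := hS.exact.desc γ hγ0
  have hpg : p ≫ g = γ := hS.exact.g_desc γ hγ0
  have hg : ∀ x ∉ Set.range i, Function.Surjective (stalkLin g x) := by
    intro x hx
    have hb : Function.Bijective (stalkLin (ClSub.idealModι i.ker) x) :=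
      HodgeIndex.stalk_bijective_idealModι i.ker (hout hx)
    haveI : Module.Free ((Pn).presheaf.stalk x) (J.presheaf.stalk x) :=
      Module.Free.of_equiv ((HomSh.unitStalk x).trans (LinearEquiv.ofBijective _ hb).symm)
    haveI : Oc.IsQuasicoherent := (Euler.isCoh_of_isInvertible (ProjPic26.isInvertible_twistProjSpace n k c)).1
    haveI : Module.Free ((Pn).presheaf.stalk x) (Oc.presheaf.stalk x) :=
      ((LocFree8.isFinLocFree_iff_fp_free Oc).1 (FinCov.isFinLocFree_of_rank hOc1)).2 x
    haveI : Module.Free ((Pn).presheaf.stalk x) ((CohB1.tensorMod J Oc).presheaf.stalk x) :=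
      Module.Free.of_equiv (Ref1.tensorStalk J Oc x).symm
    haveI : Module.Free ((Pn).presheaf.stalk x) (Q.presheaf.stalk x) :=
      haveI : Module.Free ((Pn).presheaf.stalk x) ((OX.stalk x).obj (CohB1.tensorMod J Oc)) :=
        ‹Module.Free ((Pn).presheaf.stalk x) ((CohB1.tensorMod J Oc).presheaf.stalk x)›
      Module.Free.of_equiv (R := (Pn).presheaf.stalk x) (M := (OX.stalk x).obj (CohB1.tensorMod J Oc))
        ((OX.stalk x).mapIso e₃).toLinearEquiv.symm
    have h := (OX.shortExact_iff _).1 hS x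
    have hinj : Function.Injective (stalkLin s x) := (ModuleCat.mono_iff_injective _).1 h.mono_f
    have hsur : Function.Surjective (stalkLin p x) := (ModuleCat.epi_iff_surjective _).1 h.epi_g
    have hex : Function.Exact (stalkLin s x) (stalkLin p x) :=
      (ShortComplex.ShortExact.moduleCat_exact_iff_function_exact _).1 h.exact
    obtain ⟨σ, hσ⟩ := Module.projective_lifting_property (stalkLin p x) LinearMap.id hsur
    obtain ⟨l, hl⟩ := ((Function.Exact.split_tfae hex hinj hsur).out 0 1 rfl rfl).1 ⟨σ, hσ⟩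
    refine fun v => ?_
    have hr : ((HomSh.unitStalk x).symm.toLinearMap ∘ₗ l) (E.presheaf.germ ⊤ x trivial (sec s ⊤)) = 1 := by
      rw [LinearMap.comp_apply, sec, ← QCoh.stalkLin_germ s (show x ∈ (⊤ : (Pn).Opens) from trivial)]
      refine (congrArg (HomSh.unitStalk x).symm (LinearMap.congr_fun hl _)).trans ?_
      rw [LinearEquiv.symm_apply_eq, Goodman.unitStalk_eq_ouni]
      refine Eq.trans ?_ (congrArg (OmegaBC.ouni x) (map_one ((Pn).presheaf.germ ⊤ x trivial).hom))
      exact (OmegaBC.ouni_germ x ⊤ trivial 1).symm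
    obtain ⟨e, he⟩ := hγ x ⟨_, ⊤, trivial, hr⟩ v
    exact ⟨stalkLin p x e, by rw [← QCoh.stalkLin_comp, hpg, he]⟩
  obtain ⟨can⟩ := SerrePn27.nonempty_Ft_Ft_cancel J (a := c) (b := -c) (add_neg_cancel c)
  let u : (Euler.tF N).obj Q ≅ J := (Euler.tF N).mapIso e₃ ≪≫ can
  let Lm := (Euler.tF N).obj D
  have hLm : PicF.IsInvertible Lm := Ample.isInvertible_tensorMod hDi (ProjPic26.isInvertible_twistProjSpace n k (-c))
  let t : J ⟶ Lm := u.inv ≫ (Euler.tF N).map g
  have ht : ∀ x ∉ Set.range i, Function.Surjective (stalkLin t x) := fun x hx v => by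
    obtain ⟨e, rfl⟩ := surjective_stalk_tF hN1 g (hg x hx) v
    refine ⟨stalkLin u.hom x e, ?_⟩
    rw [← QCoh.stalkLin_comp, show u.hom ≫ t = (Euler.tF N).map g from u.hom_inv_id_assoc _]
  have hz : ∀ (F : (Pn).Modules), FlatMod.IsFinLocFree F → ∀ p < 2,
      IsZero ((ModSite.extSh (O := (Pn).sheaf) ((Scheme.Modules.pushforward i).obj (Coh.structureModule Y)) p).obj F) :=
    fun F hF p hp => isZero_extSh i hlci hF hp
  obtain ⟨h, hh⟩ : ∃ h : Coh.structureModule (Pn) ⟶ Lm, ClSub.idealModι i.ker ≫ h = t := by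
    haveI := CodimExt27.subsingleton_ext_of_isZero_extSh _ _ (hz Lm (Euler.isFinLocFree_of_isInvertible hLm)) 1
      (by omega)
    obtain ⟨y, hy⟩ := Ext.contravariant_sequence_exact₁ (idealSeq_shortExact i) Lm (Ext.mk₀ t) (add_zero 1)
      (Subsingleton.elim _ _)
    obtain ⟨y', rfl⟩ := (Ext.mk₀_bijective _ _).2 y
    exact ⟨y', (Ext.mk₀_bijective _ _).1 ((Ext.mk₀_comp_mk₀ _ _).symm.trans hy)⟩
  have hhs : ∀ x ∉ Set.range i, Function.Surjective (stalkLin h x) := fun x hx v => by
    obtain ⟨e, rfl⟩ := ht x hx v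
    exact ⟨stalkLin (ClSub.idealModι i.ker) x e, by rw [← QCoh.stalkLin_comp, hh]⟩
  have h0 : h ≠ 0 := fun h0 => by
    have hη := genericPoint_notMem' i hlci
    have hsub : Subsingleton (Lm.presheaf.stalk (genericPoint (Pn))) := subsingleton_of_forall_eq 0 fun v => by
      obtain ⟨e, rfl⟩ := hhs _ hη v
      rw [h0]
      exact LinearMap.congr_fun (congrArg ModuleCat.Hom.hom ((OX.stalk (genericPoint (Pn))).map_zero (Coh.structureModule (Pn)) Lm)) e
    obtain ⟨D', e', hx', he'⟩ := FinCov.exists_frame_nhd_of_rank (Euler.isFinLocFreeOfRank_one' hLm) (genericPoint (Pn))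
    obtain ⟨b⟩ := Euler.stalk_basis_of_frame he' hx'
    exact b.ne_zero 0 (Subsingleton.elim _ _)
  haveI := RankTwo12.mono_of_ne_zero Euler.isInvertible_structure (Euler.isFinLocFreeOfRank_one' hLm) h0
  let C := cokernel h
  have hC : Coh.IsCoh C := QCoh.isCoh_cokernel h (Euler.isCoh_of_isInvertible Euler.isInvertible_structure)
    (Euler.isCoh_of_isInvertible hLm)
  haveI : Subsingleton (Ext C (Coh.structureModule (Pn)) 1) := by
    refine CodimExt27.subsingleton_ext_of_isZero_extSh C _ (fun p hp => ?_) 1 (show 1 < 2 by omega)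
    refine DepthExt20.isZero_extSh_of_le_depth hC (Euler.isCoh_of_isInvertible Euler.isInvertible_structure)
      (fun x hx => ?_) hp
    obtain ⟨z, rfl⟩ : x ∈ Set.range i := by_contra fun hxi =>
      QCoh.notMem_support_cokernel_of_surjective h (hhs x hxi) hx
    refine CodimExt27.le_depth_stalk_of_finLocFree (CohB1.ProjSpace.toSpec n k) (LciDual27.dim_components_proj n)
      (DualTF27.isRegular_projSpace k n) (Euler.isFinLocFree_of_isInvertible Euler.isInvertible_structure) (i z) ?_
    rw [← CodimExt27.ptDim_add_dim_stalk (CohB1.ProjSpace.toSpec n k) (LciDual27.dim_components_proj n) (i z)]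
    exact add_le_add le_rfl (two_le_dim_stalk i hlci z)
  have hSh : (ShortComplex.mk h (cokernel.π h) (cokernel.condition h)).ShortExact :=
    { exact := ShortComplex.exact_of_g_is_cokernel _ (cokernelIsCokernel h) }
  obtain ⟨r, hr⟩ := Ext.contravariant_sequence_exact₁ hSh (Coh.structureModule (Pn)) (Ext.mk₀ (𝟙 _)) (add_zero 1)
    (Subsingleton.elim _ _)
  obtain ⟨r', rfl⟩ := (Ext.mk₀_bijective _ _).2 r
  have hr' : h ≫ r' = 𝟙 _ := (Ext.mk₀_bijective _ _).1 ((Ext.mk₀_comp_mk₀ _ _).symm.trans hr)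
  haveI : Epi r' := epi_of_epi_fac hr'
  haveI := Algz56.isIso_of_epi_invertible hLm Euler.isInvertible_structure r'
  obtain ⟨can'⟩ := SerrePn27.nonempty_Ft_Ft_cancel D (a := -c) (b := c) (neg_add_cancel c)
  exact ⟨can'.symm ≪≫ (Euler.tF Oc).mapIso (asIso r') ≪≫ OX.tensorUnitLeftIso Oc⟩

end Proj

end GrothLib.SerreCor28
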