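import Groth.Agent.Lib.SerreCor28.Stalk
import Groth.Agent.Lib.FunSES25.Basic
import Groth.Agent.Lib.HomSES20.LES
import Groth.Agent.Lib.ExtOne28.Involution
import Groth.Agent.Lib.LocFreeDual20.Ext

/-!
# `Ext` of the ideal of a codimension two regular immersion
-/

set_option autoImplicit false
set_option maxHeartbeats 600000
set_option linter.style.haveILetI false
set_option linter.unusedSectionVars false
set_option backward.isDefEq.respectTransparency false

universe u

open CategoryTheory CategoryTheory.Limits AlgebraicGeometry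
open GrothLib.LocFreeHom GrothLib.LocFreeDual20 GrothLib.OX

noncomputable section

namespace GrothLib.SerreCor28

attribute [local instance] LocFreeHom.hasSheafHom

variable {X : Scheme.{u}}

local instance (M : X.Modules) : ModSite.HasSheafHom (O := X.sheaf) M :=
  GrothLib.SheafCoh.hasSheafHom X.sheaf M

/-- The transposed map of the left term is a kernel. -/
theorem nonempty_kernel_hMap_iso (S : ShortComplex X.Modules) (hS : S.ShortExact) (N : X.Modules) :
    Nonempty (kernel (hMap S.f N) ≅ iHom S.X₃ N) := by
  haveI : Mono (HomSES20.homSeq S N).f := HomSES20.mono_homMap S N hS.exact hS.epi_g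
  have h1 := (HomSES20.homSeq_exact S N hS.exact hS.epi_g).fIsKernel
  exact ⟨(kernel.mapIso _ _ ((siteHomIso S.X₂).app N) ((siteHomIso S.X₁).app N)
      (ExtOne28.siteHomIso_hMap S.f N)).symm ≪≫
    (h1.conePointUniqueUpToIso (kernelIsKernel _)).symm ≪≫ (siteHomIso S.X₃).app N⟩

theorem additive_site (M : X.Modules) : (ModSite.sheafHom (O := X.sheaf) M : X.Modules ⥤ X.Modules).Additive :=
  haveI := (DCoh.sheafHomAdj M).right_adjoint_additive
  Functor.additive_of_iso (siteHomIso M).symm

theorem preservesFiniteLimits_site (M : X.Modules) :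
    PreservesFiniteLimits (ModSite.sheafHom (O := X.sheaf) M : X.Modules ⥤ X.Modules) :=
  haveI := (ModSite.sheafHomAdj (O := X.sheaf) M).rightAdjoint_preservesLimits
  inferInstance

theorem isZero_derived_structure [HasInjectiveResolutions X.Modules] (M : X.Modules) (p : ℕ)
    [(ModSite.sheafHom (O := X.sheaf) (Coh.structureModule X) : X.Modules ⥤ X.Modules).Additive] :
    IsZero (((ModSite.sheafHom (O := X.sheaf) (Coh.structureModule X) : X.Modules ⥤ X.Modules).rightDerived
      (p + 1)).obj M) := by
  haveI : PreservesFiniteColimits (DCoh.sheafHom (Coh.structureModule X) : X.Modules ⥤ X.Modules) :=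
    preservesFiniteColimits_sheafHom (Euler.isFinLocFree_of_isInvertible Euler.isInvertible_structure)
  haveI : PreservesFiniteColimits (ModSite.sheafHom (O := X.sheaf) (Coh.structureModule X) : X.Modules ⥤ X.Modules) :=
    preservesFiniteColimits_of_natIso (siteHomIso (Coh.structureModule X)).symm
  haveI := preservesFiniteLimits_site (Coh.structureModule X)
  exact LocZ.isZero_rightDerived_exact (A := X.Modules) (B := X.Modules)
    (ModSite.sheafHom (O := X.sheaf) (Coh.structureModule X)) M p

/-- The internal Hom functor of the site. -/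
abbrev hF (Z : X.Modules) : X.Modules ⥤ X.Modules := ModSite.sheafHom (O := X.sheaf) Z

section Seq

variable [HasInjectiveResolutions X.Modules] {J Q : X.Modules} {j : J ⟶ Coh.structureModule X}
  {q : Coh.structureModule X ⟶ Q} {w : j ≫ q = 0} (hS : (ShortComplex.mk j q w).ShortExact) (M : X.Modules)
  [(ModSite.sheafHom (O := X.sheaf) Q : X.Modules ⥤ X.Modules).Additive]

include hS in
/-- Under vanishing of `Hom` and `Ext¹` of the quotient, maps out of the ideal extend; `Ext¹` of the ideal is `Ext²` of the quotient. -/
theorem ext_ideal (h0 : IsZero (((hF Q).rightDerived 0).obj M)) (h1 : IsZero (((hF Q).rightDerived 1).obj M))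
    [(DCoh.sheafHom J : X.Modules ⥤ X.Modules).Additive] :
    Nonempty (iHom J M ≅ M) ∧
      Nonempty (((DCoh.sheafHom J : X.Modules ⥤ X.Modules).rightDerived 1).obj M ≅
        ((hF Q).rightDerived 2).obj M) := by
  haveI := additive_site J
  haveI := additive_site (Coh.structureModule X)
  haveI := preservesFiniteLimits_site J
  haveI := preservesFiniteLimits_site (Coh.structureModule X)
  haveI := preservesFiniteLimits_site Q
  let ι : hF Q ⟶ hF (Coh.structureModule X) := ExtSupp.sheafHomMap (O := X.sheaf) q
  let π : hF (Coh.structureModule X) ⟶ hF J := ExtSupp.sheafHomMap (O := X.sheaf) j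
  have wz : ι ≫ π = 0 := by
    ext1; funext F
    exact HomSES20.homMap_comp_zero (ShortComplex.mk j q w) F
  have hse : ∀ I : X.Modules, Injective I → (FunSES25.seqAt ι π wz I).ShortExact := fun I hI => by
    haveI : Mono (FunSES25.seqAt ι π wz I).f := HomSES20.mono_homMap (ShortComplex.mk j q w) I hS.exact hS.epi_g
    haveI : Epi (FunSES25.seqAt ι π wz I).g := HomSES20.epi_of_app_surjective (π.app I) fun U =>
      HomSES20.homMap_app_surjective (ShortComplex.mk j q w) hS I U
    exact { exact := HomSES20.homSeq_exact (ShortComplex.mk j q w) I hS.exact hS.epi_g }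
  constructor
  · have hepi : Epi (π.app M) := (FunSES25.exact_δ₀ ι π wz hse M).epi_f (h1.eq_of_tgt _ _)
    have hz : IsZero ((hF Q).obj M) := h0.of_iso (asIso ((hF Q).toRightDerivedZero.app M))
    have hmono : Mono (π.app M) :=
      (HomSES20.homSeq_exact (ShortComplex.mk j q w) M hS.exact hS.epi_g).mono_g (hz.eq_of_src _ _)
    haveI := isIso_of_mono_of_epi (π.app M)
    obtain ⟨e⟩ := LocFreeHom.nonempty_iHom_unit_iso M
    exact ⟨((siteHomIso J).app M).symm ≪≫ (asIso (π.app M)).symm ≪≫ (siteHomIso (Coh.structureModule X)).app M ≪≫ e⟩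
  · haveI := FunSES25.isIso_δ_app ι π wz hse M 1 (isZero_derived_structure M 0) (isZero_derived_structure M 1)
    exact ⟨((SheafCoh.rightDerivedCongr (siteHomIso J) 1).app M).symm ≪≫ asIso ((FunSES25.δ ι π wz hse 1).app M)⟩

end Seq

end GrothLib.SerreCor28
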